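/-
An elementary abelian group of permutations of the 24 points fixes few codewords.
-/
import Cfsg.Agent.Lib.Leech.Basic
import Cfsg.Agent.Lib.Golay.ElemClasses

set_option autoImplicit false
set_option maxHeartbeats 800000

namespace CfsgLib.StdConway

open Cfsg CfsgGolay CfsgLeech
open scoped Pointwise

attribute [local irreducible] codeL octadL dodecadL slpCodes

local notation "P24" => Equiv.Perm GolayPt

theorem fix_le_eight {σ : P24} (hσ : σ ∈ M24) (hs : σ * σ = 1) (hne : σ ≠ 1) : (fixF σ).card ≤ 8 := by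
  obtain ⟨k, -, h⟩ := class_two hσ (orderOf_eq_prime (by rw [pow_two]; exact hs) hne)
  rw [← card_fixF_conj k σ]
  rcases h with h | h <;> rw [h]
  · exact card_fix_2A.le
  · rw [card_fix_2B]; norm_num

/-- A least sum over sets of a given size, and few points in it. -/
theorem light_set {ι : Type*} [Fintype ι] [DecidableEq ι] (s : ι → ℕ) (hsum : ∑ i, s i = 24)
    (h3 : ∀ i, s i ≠ 3) {m q : ℕ} (hm : 1 ≤ m) (hm6 : m ≤ 6) (hq : q + 11 = Fintype.card ι + m)
    (hb : Fintype.card ι * 2 ^ m ≤ 8 * 2 ^ m + 16) :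
    ∃ Q : Finset ι, Q.card = q ∧ ∑ i ∈ Q, s i < 8 := by
  classical
  have hqn : q ≤ (Finset.univ : Finset ι).card := by rw [Finset.card_univ]; omega
  obtain ⟨Q, hQ, hmin⟩ := Finset.exists_min_image ((Finset.univ : Finset ι).powersetCard q)
    (fun Q => ∑ i ∈ Q, s i) (Finset.powersetCard_nonempty.mpr hqn)
  rw [Finset.mem_powersetCard] at hQ
  refine ⟨Q, hQ.2, ?_⟩
  by_contra h8
  push Not at h8
  have hQne : Q.Nonempty := by
    rcases Finset.eq_empty_or_nonempty Q with rfl | h
    · simp at h8
    · exact h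
  obtain ⟨i₀, hi₀, hmax⟩ := Finset.exists_max_image Q s hQne
  have hqM : 8 ≤ q * s i₀ := h8.trans (by
    calc ∑ i ∈ Q, s i ≤ Q.card • s i₀ := Finset.sum_le_card_nsmul _ _ _ hmax
      _ = q * s i₀ := by rw [hQ.2, smul_eq_mul])
  have hout : ∀ j ∉ Q, s i₀ ≤ s j := by
    intro j hj
    have hmem : insert j (Q.erase i₀) ∈ (Finset.univ : Finset ι).powersetCard q := by
      rw [Finset.mem_powersetCard]
      refine ⟨Finset.subset_univ _, ?_⟩
      rw [Finset.card_insert_of_notMem (fun h => hj (Finset.mem_of_mem_erase h)), Finset.card_erase_of_mem hi₀]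
      have := Finset.card_pos.mpr hQne
      omega
    have h := hmin _ hmem
    rw [Finset.sum_insert (fun h => hj (Finset.mem_of_mem_erase h)), ← Finset.add_sum_erase Q s hi₀] at h
    omega
  have hrest : (Fintype.card ι - q) * s i₀ ≤ ∑ i ∈ Qᶜ, s i := by
    rw [← hQ.2, ← Finset.card_compl, ← smul_eq_mul]
    exact Finset.card_nsmul_le_sum _ _ _ fun j hj => hout j (Finset.mem_compl.mp hj)
  have htot := Finset.sum_add_sum_compl Q s
  rw [hsum] at htot
  have hd : Fintype.card ι - q = 11 - m := by omega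
  rw [hd] at hrest
  have h30 := h3 i₀
  generalize s i₀ = M at hqM hrest h30
  have hn : Fintype.card ι ≤ 16 := by
    interval_cases m <;> omega
  interval_cases m <;> first
    | (have : M ≥ 2 := by
        by_contra hM
        interval_cases M <;> omega
       omega)
    | (have : M ≥ 4 := by
        by_contra hM
        interval_cases M <;> omega
       omega)

/-- An elementary abelian group of order `2 ^ m` fixing `|W|` words has `|W| · 2 ^ m < 4096`. -/
theorem few_words_le_six {H : Subgroup P24} (hH : H ≤ M24) (hsq : ∀ σ ∈ H, σ * σ = 1) {m : ℕ}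
    (hcard : Nat.card ↥H = 2 ^ m) (hm : 1 ≤ m) (hm6 : m ≤ 6) {W : Finset (Finset GolayPt)}
    (hW : ∀ c ∈ W, c ∈ CW) (hfix : ∀ σ ∈ H, ∀ c ∈ W, σ • c = c) : W.card * 2 ^ m < 4096 := by
  classical
  haveI : Fintype ↥H := Fintype.ofFinite _
  let O := MulAction.orbitRel.Quotient ↥H GolayPt
  let π : GolayPt → O := Quotient.mk''
  haveI : Fintype O := Fintype.ofFinite _
  let s : O → ℕ := fun o => (Finset.univ.filter fun x => π x = o).card
  have hs : ∑ o, s o = 24 := by
    rw [← card_univ_pt]
    exact (Finset.card_eq_sum_card_fiberwise (fun x _ => Finset.mem_univ (π x))).symm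
  have hπ : ∀ x y, π x = π y ↔ x ∈ MulAction.orbit ↥H y := fun x y => Quotient.eq''
  have h3 : ∀ o, s o ≠ 3 := by
    intro o ho
    obtain ⟨y, rfl⟩ := Quotient.exists_rep o
    have hd : Nat.card ↥(MulAction.orbit ↥H y) ∣ 2 ^ m := by
      rw [← hcard, Nat.card_coe_set_eq, ← MulAction.index_stabilizer]
      exact Subgroup.index_dvd_card _
    have he : Nat.card ↥(MulAction.orbit ↥H y) = s (π y) := by
      rw [Nat.card_eq_fintype_card, Fintype.card_subtype]
      refine congrArg Finset.card (Finset.ext fun x => ?_)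
      simp only [Finset.mem_filter, Finset.mem_univ, true_and]
      exact (hπ x y).symm
    rw [he, show s (π y) = 3 from ho] at hd
    exact absurd (Nat.Prime.dvd_of_dvd_pow Nat.prime_three hd) (by norm_num)
  have hburn : Fintype.card O * 2 ^ m ≤ 8 * 2 ^ m + 16 := by
    rw [← hcard, Nat.card_eq_fintype_card,
      ← MulAction.sum_card_fixedBy_eq_card_orbits_mul_card_group ↥H GolayPt,
      ← Finset.add_sum_erase Finset.univ _ (Finset.mem_univ (1 : ↥H))]
    have h1 : Fintype.card ↥(MulAction.fixedBy GolayPt (1 : ↥H)) ≤ 24 := by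
      rw [← card_univ_pt]; exact Fintype.card_subtype_le _
    have h2 : ∀ σ ∈ Finset.univ.erase (1 : ↥H), Fintype.card ↥(MulAction.fixedBy GolayPt σ) ≤ 8 := by
      intro σ hσ
      have hne : (σ : P24) ≠ 1 := fun h => (Finset.mem_erase.mp hσ).1 (Subtype.ext h)
      refine le_of_eq_of_le ?_ (fix_le_eight (hH σ.2) (hsq _ σ.2) hne)
      rw [Fintype.card_subtype]
      refine congrArg Finset.card (Finset.ext fun x => ?_)
      simp only [Finset.mem_filter, Finset.mem_univ, true_and, mem_fixF]
      rfl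
    have hpos : 0 < Fintype.card ↥H := Fintype.card_pos
    have h4 := Finset.sum_le_card_nsmul _ _ _ h2
    rw [Finset.card_erase_of_mem (Finset.mem_univ _), Finset.card_univ, smul_eq_mul] at h4
    omega
  rcases Nat.lt_or_ge (Fintype.card O + m) 11 with hlow | hlow
  · have hle : W.card ≤ 2 ^ Fintype.card O := by
      rw [← Finset.card_univ, ← Finset.card_powerset]
      refine Finset.card_le_card_of_injOn (fun c => c.image π) (fun c _ => Finset.mem_powerset.mpr (Finset.subset_univ _)) ?_
      intro c hc d hd h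
      simp only [Finset.mem_coe] at hc hd
      change c.image π = d.image π at h
      ext x
      have key : ∀ c ∈ W, ∀ x, π x ∈ c.image π → x ∈ c := by
        intro c hc x hx
        obtain ⟨y, hy, hxy⟩ := Finset.mem_image.mp hx
        obtain ⟨σ, hσ⟩ := (hπ x y).mp hxy.symm
        rw [← hfix σ.1 σ.2 c hc, ← hσ]
        exact Finset.smul_mem_smul_finset hy
      exact ⟨fun hx => key d hd x (by rw [← h]; exact Finset.mem_image_of_mem π hx),
        fun hx => key c hc x (by rw [h]; exact Finset.mem_image_of_mem π hx)⟩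
    calc W.card * 2 ^ m ≤ 2 ^ Fintype.card O * 2 ^ m := Nat.mul_le_mul_right _ hle
      _ = 2 ^ (Fintype.card O + m) := (pow_add 2 _ _).symm
      _ < 2 ^ 12 := Nat.pow_lt_pow_right (by norm_num) (by omega)
  obtain ⟨Q, hQc, hQ⟩ := light_set s hs h3 (q := Fintype.card O + m - 11) hm hm6 (by omega) hburn
  have key : ∀ c ∈ W, ∀ x, π x ∈ c.image π → x ∈ c := by
    intro c hc x hx
    obtain ⟨y, hy, hxy⟩ := Finset.mem_image.mp hx
    obtain ⟨σ, hσ⟩ := (hπ x y).mp hxy.symm
    rw [← hfix σ.1 σ.2 c hc, ← hσ]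
    exact Finset.smul_mem_smul_finset hy
  have hle : W.card ≤ 2 ^ Qᶜ.card := by
    rw [← Finset.card_powerset]
    refine Finset.card_le_card_of_injOn (fun c => c.image π \ Q)
      (fun c _ => Finset.mem_powerset.mpr fun o ho => Finset.mem_compl.mpr (Finset.mem_sdiff.mp ho).2) ?_
    intro c hc d hd h
    simp only [Finset.mem_coe] at hc hd
    have hcd := CW_symmDiff (hW c hc) (hW d hd)
    have hsub : (symmDiff c d).card ≤ ∑ o ∈ Q, s o := by
      refine le_of_le_of_eq (Finset.card_le_card (t := Finset.univ.filter fun x => π x ∈ Q) fun x hx => ?_) ?_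
      · simp only [Finset.mem_filter, Finset.mem_univ, true_and]
        by_contra hxQ
        have hiff : x ∈ c ↔ x ∈ d := by
          constructor
          · intro hxc
            have : π x ∈ c.image π \ Q := Finset.mem_sdiff.mpr ⟨Finset.mem_image_of_mem π hxc, hxQ⟩
            rw [show c.image π \ Q = d.image π \ Q from h] at this
            exact key d hd x (Finset.mem_sdiff.mp this).1
          · intro hxd
            have : π x ∈ d.image π \ Q := Finset.mem_sdiff.mpr ⟨Finset.mem_image_of_mem π hxd, hxQ⟩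
            rw [← show c.image π \ Q = d.image π \ Q from h] at this
            exact key c hc x (Finset.mem_sdiff.mp this).1
        simp only [Finset.mem_symmDiff] at hx
        tauto
      · refine (Finset.card_eq_sum_card_fiberwise (f := π) (t := Q) fun x hx => ?_).trans ?_
        · exact (Finset.mem_filter.mp hx).2
        refine Finset.sum_congr rfl fun o ho => congrArg Finset.card (Finset.ext fun x => ?_)
        simp only [Finset.mem_filter, Finset.mem_univ, true_and]
        exact ⟨fun hx => hx.2, fun hx => ⟨hx ▸ ho, hx⟩⟩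
    rcases CW_weights hcd with h0 | h0 | h0 | h0 | h0
    · exact symmDiff_eq_bot.mp h0
    · omega
    · omega
    · omega
    · rw [h0, Finset.card_univ, card_univ_pt] at hsub; omega
  rw [Finset.card_compl, hQc] at hle
  calc W.card * 2 ^ m ≤ 2 ^ (Fintype.card O - (Fintype.card O + m - 11)) * 2 ^ m := Nat.mul_le_mul_right _ hle
    _ = 2 ^ 11 := by rw [← pow_add]; congr 1; omega
    _ < 4096 := by norm_num

theorem comm_of_sq {H : Subgroup P24} (hsq : ∀ σ ∈ H, σ * σ = 1) {a b : P24} (ha : a ∈ H) (hb : b ∈ H) :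
    a * b = b * a := by
  have h1 := hsq _ (mul_mem ha hb)
  have hai : a⁻¹ = a := inv_eq_of_mul_eq_one_right (hsq a ha)
  have hbi : b⁻¹ = b := inv_eq_of_mul_eq_one_right (hsq b hb)
  calc a * b = (a * b)⁻¹ := (inv_eq_of_mul_eq_one_right h1).symm
    _ = b * a := by rw [mul_inv_rev, hai, hbi]

/-- An elementary abelian subgroup has order at most `64`. -/
theorem elem_rank {H : Subgroup P24} (hH : H ≤ M24) (hsq : ∀ σ ∈ H, σ * σ = 1) {m : ℕ}
    (hcard : Nat.card ↥H = 2 ^ m) : m ≤ 6 := by
  classical
  by_contra hm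
  push Not at hm
  have hbig : 128 ≤ Nat.card ↥H := by
    rw [hcard]; exact le_trans (by norm_num) (Nat.pow_le_pow_right (by norm_num : 0 < 2) hm)
  haveI : Fintype ↥H := Fintype.ofFinite _
  let O := MulAction.orbitRel.Quotient ↥H GolayPt
  let π : GolayPt → O := Quotient.mk''
  haveI : Fintype O := Fintype.ofFinite _
  let s : O → ℕ := fun o => (Finset.univ.filter fun x => π x = o).card
  have hs : ∑ o, s o = 24 := by
    rw [← card_univ_pt]
    exact (Finset.card_eq_sum_card_fiberwise (fun x _ => Finset.mem_univ (π x))).symm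
  have hπ : ∀ x y, π x = π y ↔ x ∈ MulAction.orbit ↥H y := fun x y => Quotient.eq''
  have hstep : ∀ U : Finset O, 8 < ∑ o ∈ U, s o → Nat.card ↥H ≤ ∏ o ∈ U, s o := by
    intro U hU
    choose r hr using fun o : O => Quotient.exists_rep o
    let F : ↥H → (∀ o ∈ U, GolayPt) := fun h o _ => h • r o
    have hF : Function.Injective F := by
      intro a b hab
      by_contra hne
      have hne' : ((b⁻¹ * a : ↥H) : P24) ≠ 1 := fun h => hne (inv_mul_eq_one.mp (Subtype.ext h)).symm
      have h8 := fix_le_eight (hH (b⁻¹ * a).2) (hsq _ (b⁻¹ * a).2) hne'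
      refine absurd h8 (not_le.mpr (lt_of_lt_of_le hU ?_))
      refine le_of_eq_of_le ?_ (Finset.card_le_card (s := Finset.univ.filter fun x => π x ∈ U) fun x hx => ?_)
      · symm
        refine (Finset.card_eq_sum_card_fiberwise (f := π) (t := U) fun x hx => ?_).trans ?_
        · exact (Finset.mem_filter.mp hx).2
        refine Finset.sum_congr rfl fun o ho => congrArg Finset.card (Finset.ext fun x => ?_)
        simp only [Finset.mem_filter, Finset.mem_univ, true_and]
        exact ⟨fun hx => hx.2, fun hx => ⟨hx ▸ ho, hx⟩⟩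
      · simp only [Finset.mem_filter, Finset.mem_univ, true_and] at hx
        rw [mem_fixF]
        obtain ⟨c, hc⟩ := (hπ x (r (π x))).mp (hr (π x)).symm
        have e1 : a • r (π x) = b • r (π x) := congrFun (congrFun hab (π x)) hx
        have e2 : (b⁻¹ * a) • x = x := by
          conv_lhs => rw [← hc, smul_smul, show b⁻¹ * a * c = c * (b⁻¹ * a) from
            Subtype.ext (comm_of_sq hsq (b⁻¹ * a).2 c.2)]
          rw [mul_smul, mul_smul, e1, inv_smul_smul]
          exact hc
        exact e2
    rw [Nat.card_eq_fintype_card, ← Finset.card_univ, ← Finset.card_pi]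
    refine Finset.card_le_card_of_injOn F (fun h _ => Finset.mem_pi.mpr fun o ho => ?_) hF.injOn
    simp only [Finset.mem_filter, Finset.mem_univ, true_and]
    exact ((hπ _ _).mpr ⟨h, rfl⟩).trans (hr o)
  have hdvd : ∀ o, ∃ k, k ≤ 4 ∧ s o = 2 ^ k := by
    intro o
    obtain ⟨y, rfl⟩ := Quotient.exists_rep o
    have hd : Nat.card ↥(MulAction.orbit ↥H y) ∣ 2 ^ m := by
      rw [← hcard, Nat.card_coe_set_eq, ← MulAction.index_stabilizer]
      exact Subgroup.index_dvd_card _
    have he : Nat.card ↥(MulAction.orbit ↥H y) = s (π y) := by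
      rw [Nat.card_eq_fintype_card, Fintype.card_subtype]
      refine congrArg Finset.card (Finset.ext fun x => ?_)
      simp only [Finset.mem_filter, Finset.mem_univ, true_and]
      exact (hπ x y).symm
    obtain ⟨k, -, hk⟩ := (Nat.dvd_prime_pow Nat.prime_two).mp hd
    refine ⟨k, ?_, he.symm.trans hk⟩
    by_contra hk4
    have h32 : 2 ^ 5 ≤ 2 ^ k := Nat.pow_le_pow_right (by norm_num) (by omega)
    have hle := Finset.single_le_sum (f := s) (fun i _ => Nat.zero_le _) (Finset.mem_univ (π y))
    rw [hs, he.symm.trans hk] at hle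
    omega
  have hsmall : ∀ o, s o = 1 ∨ s o = 2 ∨ s o = 4 ∨ s o = 8 := by
    intro o
    obtain ⟨k, hk, he⟩ := hdvd o
    by_cases h16 : s o = 16
    · have := hstep {o} (by rw [Finset.sum_singleton]; omega)
      rw [Finset.prod_singleton] at this
      omega
    interval_cases k <;> simp_all
  by_cases h8 : ∃ o, s o = 8
  · obtain ⟨o, ho⟩ := h8
    obtain ⟨o', ho'⟩ : ∃ o', o' ≠ o := by
      by_contra hno
      push Not at hno
      have : ∑ o', s o' = s o := Finset.sum_eq_single o (fun b _ hb => absurd (hno b) hb) (by simp)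
      omega
    have h := hstep {o, o'} (by
      rw [Finset.sum_pair ho'.symm, ho]
      rcases hsmall o' with h | h | h | h <;> omega)
    rw [Finset.prod_pair ho'.symm, ho] at h
    rcases hsmall o' with h' | h' | h' | h' <;> rw [h'] at h <;> omega
  push Not at h8
  obtain ⟨U, hU, hmin⟩ := Finset.exists_min_image ((Finset.univ : Finset O).powerset.filter fun U => 8 < ∑ o ∈ U, s o)
    Finset.card ⟨Finset.univ, by simp [hs]⟩
  simp only [Finset.mem_filter, Finset.mem_powerset] at hU
  have hle : ∑ o ∈ U, s o ≤ 12 := by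
    obtain ⟨o, ho⟩ : U.Nonempty := by
      rcases Finset.eq_empty_or_nonempty U with rfl | h
      · simp at hU
      · exact h
    by_contra hgt
    have hlt : ¬ (8 < ∑ o' ∈ U.erase o, s o') := fun h => by
      have := hmin (U.erase o) (Finset.mem_filter.mpr ⟨Finset.mem_powerset.mpr (Finset.subset_univ _), h⟩)
      rw [Finset.card_erase_of_mem ho] at this
      have := Finset.card_pos.mpr ⟨o, ho⟩
      omega
    rw [← Finset.add_sum_erase U s ho] at hgt
    rcases hsmall o with h | h | h | h <;> have := h8 o <;> omega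
  have hsq' : (∏ o ∈ U, s o) ^ 2 ≤ 2 ^ ∑ o ∈ U, s o := by
    rw [← Finset.prod_pow, ← Finset.prod_pow_eq_pow_sum]
    refine Finset.prod_le_prod' fun o _ => ?_
    rcases hsmall o with h | h | h | h <;> rw [h] <;> norm_num
  have h := hstep U hU.2
  have h2 : 128 ^ 2 ≤ 2 ^ 12 :=
    calc 128 ^ 2 ≤ (∏ o ∈ U, s o) ^ 2 := Nat.pow_le_pow_left (hbig.trans h) 2
      _ ≤ 2 ^ ∑ o ∈ U, s o := hsq'
      _ ≤ 2 ^ 12 := Nat.pow_le_pow_right (by norm_num) hle
  norm_num at h2

/-- A nontrivial elementary abelian group fixes few words. -/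
theorem few_words {H : Subgroup P24} (hH : H ≤ M24) (hsq : ∀ σ ∈ H, σ * σ = 1) {m : ℕ}
    (hcard : Nat.card ↥H = 2 ^ m) (hm : 1 ≤ m) {W : Finset (Finset GolayPt)}
    (hW : ∀ c ∈ W, c ∈ CW) (hfix : ∀ σ ∈ H, ∀ c ∈ W, σ • c = c) : W.card * 2 ^ m < 4096 :=
  few_words_le_six hH hsq hcard hm (elem_rank hH hsq hcard) hW hfix

end CfsgLib.StdConway
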