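/-
Every involution of the monomial group is conjugate to a sign change.
-/
import Cfsg.Agent.Lib.Leech.OutCo1Sylow
import Cfsg.Agent.Lib.Leech.Transitive
import Cfsg.Agent.Lib.Leech.Paths
import Cfsg.Agent.Lib.Golay.ElemClasses
import Cfsg.Agent.Lib.StdConway.InvData

set_option autoImplicit false
set_option maxHeartbeats 800000

namespace CfsgLib.StdConway

open Cfsg CfsgGolay CfsgLeech
open scoped Pointwise

attribute [local irreducible] codeL octadL dodecadL slpCodes

local notation "P24" => Equiv.Perm GolayPt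

/-- The action of a coded monomial map on the raw field at an index. -/
def rawAct (c e u i : ℕ) : ℕ :=
  if e.testBit i then 32 - pappF u (pappF c i) else pappF u (pappF c i)

/-- Equal raw fields of two coded vectors. -/
def sameF (f g : ℕ → ℕ) : Bool := (List.range 24).all fun i => Nat.beq (f i) (g i)

/-- A code is a lattice vector. -/
def latC (u : ℕ) : Bool := inLatB (vecN u)

/-- Half the difference of two coded vectors, as a code. -/
def halfC (v u : ℕ) : ℕ := pack (fun i => (pappF v i + 32 - pappF u i) / 2) 24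

/-- A list of orthogonal eigenvectors forming one frame. -/
def frameOK (c : ℕ) : ℕ × List ℕ → Bool
  | (e, W) => Nat.beq W.length 24 && (List.range 24).all fun a =>
      let v := W.getD 0 0
      let u := W.getD a 0
      latC u && Nat.beq ((List.range 24).map fun i => (Int.natAbs ((pappF u i : ℤ) - 16)) ^ 2).sum 64 &&
        latC (halfC v u) &&
        (List.range 24).all (fun i => Nat.beq ((pappF v i + 32 - pappF u i) % 2) 0) &&
        (sameF (rawAct c e u) (pappF u) || sameF (rawAct c e u) fun i => 32 - pappF u i) &&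
        (List.range a).all fun b =>
          let t := W.getD b 0
          !(sameF (pappF u) (pappF t)) && !(sameF (pappF u) fun i => 32 - pappF t i)

/-- Every fixed word is a commutator translate of a recorded sign set. -/
def coverOK (c : ℕ) (R : List (ℕ × List ℕ)) (D : List ℕ) : Bool :=
  let I := D.map fun d => Nat.xor d (pmaskF c d)
  (D.all fun d => decide (d < 2 ^ 24) && inCode d) && codeL.all fun m =>
    !(Nat.beq (pmaskF c m) m) || R.any fun t => I.any fun d => Nat.beq (Nat.xor m t.1) d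

set_option maxHeartbeats 1600000 in
theorem vec_eq {f : ℕ → ℕ} {v : GolayPt → ℤ} {u : ℕ} (h : sameF f (pappF u) = true) (hv : ∀ p, v p = (f (idx p) : ℤ) - 16) :
    v = vecN u := by
  funext p
  simp only [sameF, List.all_eq_true, List.mem_range, Nat.beq_eq] at h
  rw [hv, vecN, h _ (idx_lt p), pappF_eq]

theorem sum_idx (f : ℕ → ℤ) : ∑ p : GolayPt, f (idx p) = ((List.range 24).map f).sum := by
  rw [← List.sum_toFinset _ List.nodup_range]
  refine Finset.sum_bij' (fun p _ => idx p) (fun i _ => pt i) (fun p _ => ?_) (fun i _ => Finset.mem_univ _)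
    (fun p _ => pt_idx p) (fun i hi => ?_) (fun p _ => rfl)
  · simp [idx_lt]
  · simp only [List.mem_toFinset, List.mem_range] at hi
    exact idx_pt hi

theorem neg_of_raw {u t : ℕ} (p : GolayPt) (h : vecN u p = -vecN t p) : pappF u (idx p) = 32 - pappF t (idx p) := by
  simp only [vecN, ← pappF_eq] at h
  omega

theorem signed_raw {c : ℕ} {σ : P24} (hr : Repr c σ) (hs : σ * σ = 1) (e u : ℕ) (p : GolayPt) :
    signedPerm σ (toSet e) (vecN u) p = (rawAct c e u (idx p) : ℤ) - 16 := by
  have h1 : σ.symm p = σ p := by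
    rw [Equiv.symm_apply_eq]
    exact ((congrArg (fun τ : P24 => τ p) hs : σ (σ p) = p)).symm
  have h2 : pappF u (pappF c (idx p)) < 32 := Nat.mod_lt _ (by norm_num)
  simp only [signedPerm, rawAct, mem_toSet, h1, vecN, hr p, ← pappF_eq]
  by_cases hb : e.testBit (idx p) = true
  · rw [if_pos hb, if_pos hb]
    omega
  · rw [if_neg hb, if_neg hb]

theorem smul_sub_leech (g : ↥Co0) (a b z : ↥leechLattice) (h : a - b = 2 • z) :
    g • a - g • b = 2 • (g • z) := by
  have h2 := congrArg (autHom g) h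
  rwa [map_sub, map_nsmul] at h2

set_option maxHeartbeats 1600000 in
/-- A checked frame makes the monomial map conjugate to a sign change. -/
theorem frame_sound {c : ℕ} {σ : P24} (hσ : σ ∈ M24) (hr : Repr c σ) (hs : σ * σ = 1) {t : ℕ × List ℕ}
    (h : frameOK c t = true) (he : toSet t.1 ∈ CW) :
    ∃ h : ↥Co0, ∃ d, ∃ hd : d ∈ CW, h⁻¹ * monoAut σ hσ (toSet t.1) he * h = sgn d hd := by
  obtain ⟨e, W⟩ := t
  simp only [frameOK, Bool.and_eq_true, Bool.or_eq_true, List.all_eq_true, List.mem_range, Nat.beq_eq,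
    Bool.not_eq_true'] at h
  obtain ⟨-, hrow⟩ := h
  let w : Fin 24 → GolayPt → ℤ := fun a => vecN (W.getD a 0)
  let x := monoAut σ hσ (toSet e) he
  have hL : ∀ a, w a ∈ leechLattice := fun a => inLatB_sound (hrow a a.2).1.1.1.1.1
  have hN : ∀ a, sqNorm (w a) = 64 := fun a => by
    have h1 := (hrow a a.2).1.1.1.1.2
    have h2 := sum_idx fun i => ((pappF (W.getD a 0) i : ℤ) - 16) ^ 2
    rw [sqNorm]
    simp only [w, vecN, ← pappF_eq]
    rw [h2]
    have h3 : ∀ l : List ℕ, (l.map fun i => ((pappF (W.getD a 0) i : ℤ) - 16) ^ 2).sum =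
        (((l.map fun i => Int.natAbs ((pappF (W.getD a 0) i : ℤ) - 16) ^ 2).sum : ℕ) : ℤ) := by
      intro l
      induction l with
      | nil => simp
      | cons i l ih => simp only [List.map_cons, List.sum_cons, Nat.cast_add, Nat.cast_pow, ih]; rw [Int.natCast_natAbs, sq_abs]
    rw [h3]
    exact_mod_cast congrArg (Nat.cast : ℕ → ℤ) h1
  have hcr : ∀ a, w a ∈ cross (w 0) ∧ -w a ∈ cross (w 0) := by
    intro a
    obtain ⟨⟨⟨⟨-, hh⟩, hev⟩, -⟩, -⟩ := hrow a a.2
    have hz := inLatB_sound hh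
    have hdiff : w 0 - w a = 2 • vecN (halfC (W.getD 0 0) (W.getD a 0)) := by
      funext p
      have hp := (pack_spec (fun i => (pappF (W.getD 0 0) i + 32 - pappF (W.getD a 0) i) / 2) (fun i => by
        have : pappF (W.getD 0 0) i < 32 := Nat.mod_lt _ (by norm_num)
        omega) 24).2 _ (idx_lt p)
      have he2 := hev _ (idx_lt p)
      have hlt : pappF (W.getD a 0) (idx p) < 32 := Nat.mod_lt _ (by norm_num)
      have hlt0 : pappF (W.getD 0 0) (idx p) < 32 := Nat.mod_lt _ (by norm_num)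
      have hq : (papp (halfC (W.getD 0 0) (W.getD a 0)) (idx p) : ℕ) =
          (pappF (W.getD 0 0) (idx p) + 32 - pappF (W.getD a 0) (idx p)) / 2 := hp
      show ((papp (W.getD 0 0) (idx p) : ℕ) : ℤ) - 16 - (((papp (W.getD a 0) (idx p) : ℕ) : ℤ) - 16) =
        2 • (((papp (halfC (W.getD 0 0) (W.getD a 0)) (idx p) : ℕ) : ℤ) - 16)
      rw [hq, ← pappF_eq, ← pappF_eq, two_nsmul]
      generalize pappF (W.getD 0 0) (idx p) = A at *
      generalize pappF (W.getD a 0) (idx p) = B at *
      omega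
    refine ⟨⟨hL a, by rw [hN, hN], _, hz, hdiff⟩, neg_mem (hL a), ?_, _, add_mem hz (hL a), ?_⟩
    · rw [hN 0, ← hN a]; simp [sqNorm]
    · rw [smul_add, ← hdiff, two_nsmul]; abel
  let f : Fin 24 × Bool → GolayPt → ℤ := fun q => if q.2 then w q.1 else -w q.1
  have hdist : ∀ a b : Fin 24, (b : ℕ) < a → w a ≠ w b ∧ w a ≠ -w b := by
    intro a b hab
    obtain ⟨h1, h2⟩ := (hrow a a.2).2 b hab
    constructor <;> intro heq
    · refine Bool.false_ne_true (h1.symm.trans ?_)
      simp only [sameF, List.all_eq_true, List.mem_range, Nat.beq_eq]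
      intro i hi
      have := congrFun heq (pt i)
      simp only [w, vecN, idx_pt hi, ← pappF_eq] at this
      omega
    · refine Bool.false_ne_true (h2.symm.trans ?_)
      simp only [sameF, List.all_eq_true, List.mem_range, Nat.beq_eq]
      intro i hi
      have := neg_of_raw (pt i) (congrFun heq (pt i))
      rwa [idx_pt hi] at this
  have hne : ∀ a, w a ≠ -w a := fun a heq => by
    have h0 : w a = 0 := funext fun p => by
      have := congrFun heq p
      simp only [Pi.neg_apply, Pi.zero_apply] at this ⊢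
      omega
    have := hN a
    rw [h0] at this
    simp [sqNorm] at this
  have hinj : Function.Injective f := by
    rintro ⟨a, i⟩ ⟨b, j⟩ heq
    rcases lt_trichotomy (a : ℕ) b with hab | hab | hab
    · exfalso
      obtain ⟨h1, h2⟩ := hdist b a hab
      cases i <;> cases j <;> simp only [f, Bool.false_eq_true, if_false, if_true, neg_inj] at heq
      · exact h1 heq.symm
      · exact h2 heq.symm
      · exact h2 (by rw [heq, neg_neg])
      · exact h1 heq.symm
    · obtain rfl := Fin.ext hab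
      cases i <;> cases j <;> simp only [f, Bool.false_eq_true, if_false, if_true, neg_inj] at heq
      · rfl
      · exact absurd heq.symm (hne a)
      · exact absurd heq (hne a)
      · rfl
    · exfalso
      obtain ⟨h1, h2⟩ := hdist a b hab
      cases i <;> cases j <;> simp only [f, Bool.false_eq_true, if_false, if_true, neg_inj] at heq
      · exact h1 heq
      · exact h2 (by rw [← heq, neg_neg])
      · exact h2 heq
      · exact h1 heq
  have hc48 := cross_ncard (hL 0) (hN 0)
  have hrange : Set.range f = cross (w 0) := by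
    refine Set.eq_of_subset_of_ncard_le ?_ ?_ (Set.finite_of_ncard_ne_zero (by rw [hc48]; norm_num))
    · rintro _ ⟨⟨a, i⟩, rfl⟩
      cases i
      · exact (hcr a).2
      · exact (hcr a).1
    · rw [hc48, Set.ncard_range_of_injective hinj]
      simp
  have heig : ∀ v : ↥leechLattice, (v : GolayPt → ℤ) ∈ cross (w 0) → x • v = v ∨ x • v = -v := by
    intro v hv
    rw [← hrange] at hv
    obtain ⟨⟨a, i⟩, hv⟩ := hv
    have hwa : x • (⟨w a, hL a⟩ : ↥leechLattice) = ⟨w a, hL a⟩ ∨
        x • (⟨w a, hL a⟩ : ↥leechLattice) = -⟨w a, hL a⟩ := by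
      rcases (hrow a a.2).1.2 with hf | hf
      · exact Or.inl (Subtype.ext (vec_eq hf fun p => by
          rw [monoAut_apply]; exact signed_raw hr hs e _ p))
      · refine Or.inr (Subtype.ext (funext fun p => ?_))
        simp only [sameF, List.all_eq_true, List.mem_range, Nat.beq_eq] at hf
        rw [monoAut_apply, AddSubgroup.coe_neg, Pi.neg_apply]
        show signedPerm σ (toSet e) (vecN (W.getD a 0)) p = -vecN (W.getD a 0) p
        have hlt : pappF (W.getD a 0) (idx p) < 32 := Nat.mod_lt _ (by norm_num)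
        rw [signed_raw hr hs, hf _ (idx_lt p), vecN, ← pappF_eq]
        omega
    cases i
    · have hv' : v = -(⟨w a, hL a⟩ : ↥leechLattice) := Subtype.ext hv.symm
      rw [hv', show x • -(⟨w a, hL a⟩ : ↥leechLattice) = -(x • ⟨w a, hL a⟩) from map_neg (autHom x) _]
      rcases hwa with e | e <;> simp [e]
    · obtain rfl : v = ⟨w a, hL a⟩ := Subtype.ext hv.symm
      exact hwa
  obtain ⟨g, hg⟩ := shell_transitive (fun _ hx hn => eqv64 hx hn) (ax none) ⟨w 0, hL 0⟩
    (eightSet_props (mem_eightSet.mpr ⟨none, 8, Or.inl rfl, rfl⟩)).2 (hN 0)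
  have hax : ∀ i, (g⁻¹ * x * g) • ax i = ax i ∨ (g⁻¹ * x * g) • ax i = -ax i := by
    intro i
    have hi : (ax i : GolayPt → ℤ) ∈ cross (ax none : GolayPt → ℤ) := by
      rw [cross_ax_none]; exact ⟨i, 8, Or.inl rfl, rfl⟩
    obtain ⟨-, hn, z, hz, hzz⟩ := hi
    have himg : ((g • ax i : ↥leechLattice) : GolayPt → ℤ) ∈ cross (w 0) := by
      refine ⟨(g • ax i).2, ?_, _, (g • (⟨z, hz⟩ : ↥leechLattice)).2, ?_⟩
      · rw [aut_norm, hn, ← aut_norm g (ax none), hg]
      · have h2 := congrArg (Subtype.val : ↥leechLattice → GolayPt → ℤ)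
          (smul_sub_leech g (ax none) (ax i) ⟨z, hz⟩ (Subtype.ext hzz))
        rwa [hg] at h2
    rw [mul_smul, mul_smul]
    rcases heig _ himg with e | e
    · rw [e]; exact Or.inl (inv_smul_smul g _)
    · rw [e]
      exact Or.inr ((map_neg (autHom g⁻¹) _).trans (congrArg Neg.neg (inv_smul_smul g _)))
  have hk : KeepsCross (g⁻¹ * x * g) := by
    rintro v ⟨i, s, hs8, hv⟩
    have hcase : v = ax i ∨ v = -ax i := by
      rcases hs8 with rfl | rfl
      · exact Or.inl (Subtype.ext hv)
      · exact Or.inr (Subtype.ext (by rw [hv, AddSubgroup.coe_neg, ax_coe, Pi.single_neg]))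
    rcases hcase with rfl | rfl
    · rcases hax i with e | e <;> rw [e]
      · exact ⟨i, 8, Or.inl rfl, rfl⟩
      · exact ⟨i, -8, Or.inr rfl, by rw [AddSubgroup.coe_neg, ax_coe, Pi.single_neg]⟩
    · rw [show (g⁻¹ * x * g) • -ax i = -((g⁻¹ * x * g) • ax i) from map_neg (autHom _) _]
      rcases hax i with e | e <;> rw [e]
      · exact ⟨i, -8, Or.inr rfl, by rw [AddSubgroup.coe_neg, ax_coe, Pi.single_neg]⟩
      · exact ⟨i, 8, Or.inl rfl, by rw [neg_neg]; rfl⟩
  obtain ⟨τ, d, hτ, hd, hgd⟩ := keepsCross_monomial hk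
  have hτ1 : τ = 1 := by
    refine Equiv.ext fun i => ?_
    by_contra hne'
    have hval : ((monoAut τ hτ d hd • ax i : ↥leechLattice) : GolayPt → ℤ) (τ i) = 0 := by
      rw [← hgd]
      have hne2 : τ i ≠ i := hne'
      rcases hax i with e | e <;> rw [e] <;> simp [ax_coe, hne2]
    rw [monoAut_apply] at hval
    simp [signedPerm, ax_coe] at hval
    split_ifs at hval <;> omega
  subst hτ1
  exact ⟨g, d, hd, hgd⟩

theorem frames_A : framesA.all (frameOK e2A) = true := by decide +kernel
theorem frames_B : framesB.all (frameOK e2B) = true := by decide +kernel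
theorem cover_A : coverOK e2A framesA commA = true := by decide +kernel
theorem cover_B : coverOK e2B framesB commB = true := by decide +kernel

theorem mono_translate {σ : P24} (hσ : σ ∈ M24) {e d : Finset GolayPt} (he : e ∈ CW) (hd : d ∈ CW) :
    sgn d hd * monoAut σ hσ e he * (sgn d hd)⁻¹ =
      monoAut σ hσ (symmDiff e (symmDiff d (σ • d))) (CW_symmDiff he (CW_symmDiff hd (smul_CW hσ hd))) := by
  rw [mul_inv_eq_iff_eq_mul]
  refine aut_ext fun v => ?_
  rw [mul_smul, mul_smul]
  simp only [sgn, monoAut_apply]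
  funext i
  rw [signs_apply]
  simp only [signedPerm, one_symm_apply', Finset.mem_symmDiff, ← mem_smul_symm]
  by_cases a : i ∈ e <;> by_cases b : i ∈ d <;> by_cases c : σ.symm i ∈ d <;> simp [a, b, c]

theorem mono_congr {σ τ : P24} {hσ : σ ∈ M24} {hτ : τ ∈ M24} {c d : Finset GolayPt} {hc : c ∈ CW} {hd : d ∈ CW}
    (h : σ = τ) (h' : c = d) : monoAut σ hσ c hc = monoAut τ hτ d hd := by
  subst h h'; rfl

theorem rep_sign {c : ℕ} {σ : P24} (hσ : σ ∈ M24) (hr : Repr c σ) (hs : σ * σ = 1) {R : List (ℕ × List ℕ)}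
    {D : List ℕ} (hR : R.all (frameOK c) = true) (hC : coverOK c R D = true) {e : Finset GolayPt}
    (he : e ∈ CW) (hfix : σ • e = e) :
    ∃ h : ↥Co0, ∃ d, ∃ hd : d ∈ CW, h * monoAut σ hσ e he * h⁻¹ = sgn d hd := by
  simp only [coverOK, Bool.and_eq_true, List.all_eq_true, Bool.or_eq_true, Bool.not_eq_true', List.any_eq_true, decide_eq_true_eq,
    List.mem_map, Nat.beq_eq] at hC
  obtain ⟨hD, hC⟩ := hC
  rcases hC _ (mem_supports.mp he) with hb | ⟨t, ht, _, ⟨k, hk, rfl⟩, heq⟩
  · exfalso
    have hm : pmaskF c (toMask e) = toMask e := by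
      refine eq_of_toSet_eq (pmaskF_eq c _ ▸ hr.pmask_lt _) (toMask_lt _) ?_
      rw [pmaskF_eq, hr.toSet_pmask, toSet_toMask]
      exact hfix
    rw [hm] at hb
    exact Bool.noConfusion ((Nat.beq_refl _).symm.trans hb)
  have hset : toSet t.1 = symmDiff e (symmDiff (toSet k) (σ • toSet k)) := by
    have h1 := congrArg toSet heq
    rw [show Nat.xor (toMask e) t.1 = toMask e ^^^ t.1 from rfl,
      show Nat.xor k (pmaskF c k) = k ^^^ pmaskF c k from rfl, toSet_xor, toSet_xor, toSet_toMask,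
      pmaskF_eq, hr.toSet_pmask] at h1
    rw [show σ • toSet k = (toSet k).image σ from rfl, ← h1, ← symmDiff_assoc, symmDiff_self, bot_symmDiff]
  have hk' : toSet k ∈ CW := toSet_mem_CW (by rw [Bool.and_eq_true, decide_eq_true_eq]; exact hD k hk)
  have ht' : toSet t.1 ∈ CW := by
    rw [hset]
    exact CW_symmDiff he (CW_symmDiff hk' (smul_CW hσ hk'))
  obtain ⟨h, d, hd, hh⟩ := frame_sound hσ hr hs (List.all_eq_true.mp hR t ht) ht'
  refine ⟨h⁻¹ * sgn (toSet k) hk', d, hd, ?_⟩
  rw [← hh, mono_congr (hσ := hσ) (hτ := hσ) (hc := ht') (hd := CW_symmDiff he (CW_symmDiff hk' (smul_CW hσ hk'))) rfl hset,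
    ← mono_translate hσ he hk']
  group

theorem mono_sq {σ : P24} (hσ : σ ∈ M24) {e : Finset GolayPt} (he : e ∈ CW)
    (h : monoAut σ hσ e he * monoAut σ hσ e he = 1) : σ * σ = 1 ∧ σ • e = e := by
  have hmul : monoAut σ hσ e he * monoAut σ hσ e he =
      monoAut (σ * σ) (mul_mem hσ hσ) (symmDiff e (σ • e)) (CW_symmDiff he (smul_CW hσ he)) := by
    refine aut_ext fun v => ?_
    rw [mul_smul, monoAut_apply, monoAut_apply, monoAut_apply]
    funext i
    simp only [signedPerm, Finset.mem_symmDiff, ← mem_smul_symm]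
    rw [show (σ * σ).symm i = σ.symm (σ.symm i) from rfl]
    by_cases a : i ∈ e <;> by_cases b : σ.symm i ∈ e <;> simp [a, b]
  have h0 : (1 : ↥Co0) = monoAut 1 (one_mem _) ∅ CW_empty := sgn_empty.symm
  rw [hmul, h0] at h
  obtain ⟨h1, h2⟩ := signedPerm_inj (σ := σ * σ) (c := symmDiff e (σ • e)) (σ' := 1) (c' := ∅) fun x hx => by
    have h5 := congrArg
      (fun g : ↥Co0 => ((g • (⟨x, hx⟩ : ↥leechLattice) : ↥leechLattice) : GolayPt → ℤ)) h
    simp only [monoAut_apply] at h5
    exact h5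
  exact ⟨h1, (symmDiff_eq_bot.mp h2).symm⟩

theorem r2A_sq : r2A * r2A = 1 := by
  have h := pow_orderOf_eq_one r2A
  rwa [order_2A, pow_two] at h

theorem r2B_sq : r2B * r2B = 1 := by
  have h := pow_orderOf_eq_one r2B
  rwa [order_2B, pow_two] at h

theorem r2A_mem : r2A ∈ M24 := by unfold r2A; exact (rep_spec (c := e2A) rep_facts.1).2

theorem r2B_mem : r2B ∈ M24 := by unfold r2B; exact (rep_spec (c := e2B) rep_facts.2.1).2

theorem r2A_repr : Repr e2A r2A := by unfold r2A; exact (rep_spec (c := e2A) rep_facts.1).1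

theorem r2B_repr : Repr e2B r2B := by unfold r2B; exact (rep_spec (c := e2B) rep_facts.2.1).1

attribute [local irreducible] frameOK coverOK framesA framesB commA commB e2A e2B

theorem rep_A {e : Finset GolayPt} (he : e ∈ CW) (hfix : r2A • e = e) :
    ∃ h : ↥Co0, ∃ d, ∃ hd : d ∈ CW, h * monoAut r2A r2A_mem e he * h⁻¹ = sgn d hd :=
  rep_sign r2A_mem r2A_repr r2A_sq frames_A cover_A he hfix

theorem rep_B {e : Finset GolayPt} (he : e ∈ CW) (hfix : r2B • e = e) :
    ∃ h : ↥Co0, ∃ d, ∃ hd : d ∈ CW, h * monoAut r2B r2B_mem e he * h⁻¹ = sgn d hd :=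
  rep_sign r2B_mem r2B_repr r2B_sq frames_B cover_B he hfix

/-- An involution of the monomial group is conjugate to a sign change. -/
theorem involution_sign {x : ↥Co0} (hx : x ∈ crossStab) (hx2 : x * x = 1) :
    ∃ h : ↥Co0, ∃ d, ∃ hd : d ∈ CW, h * x * h⁻¹ = sgn d hd := by
  obtain ⟨σ, e, hσ, he, rfl⟩ := keepsCross_monomial hx
  obtain ⟨hs, hfix⟩ := mono_sq hσ he hx2
  by_cases h1 : σ = 1
  · subst h1
    exact ⟨1, e, he, by rw [one_mul, inv_one, mul_one]; rfl⟩
  obtain ⟨k, hk, hor⟩ := class_two hσ (orderOf_eq_prime (by rw [pow_two]; exact hs) h1)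
  have hconj : monoAut k hk ∅ CW_empty * monoAut σ hσ e he * (monoAut k hk ∅ CW_empty)⁻¹ =
      monoAut (k * σ * k⁻¹) (mul_mem (mul_mem hk hσ) (inv_mem hk)) (k • e) (smul_CW hk he) := by
    rw [mul_inv_eq_iff_eq_mul]
    refine aut_ext fun v => ?_
    rw [mul_smul, mul_smul]
    simp only [monoAut_apply]
    funext i
    simp only [signedPerm, Finset.notMem_empty, if_false, ← mem_smul_symm]
    rw [show (k * σ * k⁻¹).symm i = k (σ.symm (k.symm i)) from rfl, Equiv.symm_apply_apply]
  have hfix' : (k * σ * k⁻¹) • (k • e) = k • e := by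
    rw [← mul_smul, inv_mul_cancel_right, mul_smul, hfix]
  have hfin : ∀ {r : P24} (hr : r ∈ M24), k * σ * k⁻¹ = r →
      (∀ {e : Finset GolayPt} (he : e ∈ CW), r • e = e →
        ∃ h : ↥Co0, ∃ d, ∃ hd : d ∈ CW, h * monoAut r hr e he * h⁻¹ = sgn d hd) →
      ∃ h : ↥Co0, ∃ d, ∃ hd : d ∈ CW, h * monoAut σ hσ e he * h⁻¹ = sgn d hd := by
    intro r hr hkr hrep
    subst hkr
    obtain ⟨h, d, hd, hh⟩ := hrep (smul_CW hk he) hfix'
    refine ⟨h * monoAut k hk ∅ CW_empty, d, hd, ?_⟩
    rw [← hh, ← hconj]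
    group
  rcases hor with h | h
  · exact hfin _ h rep_A
  · exact hfin _ h rep_B

end CfsgLib.StdConway
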