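/-
A Sylow 2-subgroup of the monomial group: its fixed words, an orbit invariant, and uniqueness of the signs.
-/
import Cfsg.Agent.Lib.Leech.OutCo1Sylow
import Cfsg.Agent.Lib.StdConway.FewWords

set_option autoImplicit false
set_option maxHeartbeats 800000

namespace CfsgLib.StdConway

open Cfsg CfsgGolay CfsgLeech CfsgLeech.Out1
open scoped Pointwise

attribute [local irreducible] codeL octadL dodecadL slpCodes sylowM24

local notation "P24" => Equiv.Perm GolayPt
local notation "T" => spanH SylQuot.gT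

/-- The octad fixed by the Sylow subgroup of the permutations. -/
def octT : ℕ := 15274244

/-- The union of the other two octads. -/
def restT : ℕ := 1502971

/-- The images of a list of masks, adjoined. -/
def grow (L : List ℕ) : List ℕ :=
  SylQuot.gT.foldl (fun acc g => L.foldl (fun acc m =>
    let x := pmaskF g m
    if acc.any (Nat.beq x) then acc else x :: acc) acc) L

/-- A short orbit list. -/
def orbL : ℕ → List ℕ → List ℕ
  | 0, L => L
  | k + 1, L => if Nat.blt 8 L.length then L else orbL k (grow L)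

/-- The list is closed under the generators. -/
def closedB (L : List ℕ) : Bool :=
  L.all fun m => decide (m < 2 ^ 24) && SylQuot.gT.all fun g => L.any (Nat.beq (pmaskF g m))

/-- No short orbit holds a word together with its complement. -/
def noCompl (m : ℕ) : Bool :=
  let L := orbL 8 [m]
  (Nat.blt 8 L.length) || (closedB L && L.any (Nat.beq m) && !(L.any (Nat.beq (Nat.xor m 16777215))))

theorem noCompl_0 : ((codeL.drop 0).take 512).all noCompl = true := by decide +kernel
theorem noCompl_1 : ((codeL.drop 512).take 512).all noCompl = true := by decide +kernel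
theorem noCompl_2 : ((codeL.drop 1024).take 512).all noCompl = true := by decide +kernel
theorem noCompl_3 : ((codeL.drop 1536).take 512).all noCompl = true := by decide +kernel
theorem noCompl_4 : ((codeL.drop 2048).take 512).all noCompl = true := by decide +kernel
theorem noCompl_5 : ((codeL.drop 2560).take 512).all noCompl = true := by decide +kernel
theorem noCompl_6 : ((codeL.drop 3072).take 512).all noCompl = true := by decide +kernel
theorem noCompl_7 : ((codeL.drop 3584).take 512).all noCompl = true := by decide +kernel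

theorem chunk_split (f : ℕ → Bool) (l : List ℕ) (a b : ℕ) (h1 : (l.take a).all f = true)
    (h2 : ((l.drop a).take b).all f = true) : (l.take (a + b)).all f = true := by
  rw [List.take_add, List.all_append, h1, h2]; rfl

theorem codeL_take : codeL.take 4096 = codeL := List.take_of_length_le (by decide +kernel)

theorem noCompl_all : codeL.all noCompl = true := by
  have h1 := chunk_split noCompl codeL 512 512 (by simpa using noCompl_0) noCompl_1
  have h2 := chunk_split noCompl codeL 1024 512 h1 noCompl_2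
  have h3 := chunk_split noCompl codeL 1536 512 h2 noCompl_3
  have h4 := chunk_split noCompl codeL 2048 512 h3 noCompl_4
  have h5 := chunk_split noCompl codeL 2560 512 h4 noCompl_5
  have h6 := chunk_split noCompl codeL 3072 512 h5 noCompl_6
  have h7 := chunk_split noCompl codeL 3584 512 h6 noCompl_7
  rw [← codeL_take]
  exact h7

theorem short_witness :
    (let L := orbL 8 [13148440]
     closedB L && Nat.ble L.length 8 && L.any (Nat.beq 13148440) && L.any (Nat.beq (Nat.xor 13148440 octT))) = true ∧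
    (let L := orbL 8 [57883]
     closedB L && Nat.ble L.length 8 && L.any (Nat.beq 57883) && L.any (Nat.beq (Nat.xor 57883 restT))) = true ∧
    inCode 13148440 = true ∧ inCode 57883 = true ∧ inCode octT = true ∧ pc octT = 8 ∧
    Nat.xor octT 16777215 = restT ∧
    (SylQuot.gT.all fun g => Nat.beq (pmaskF g octT) octT) = true := by decide +kernel

theorem fixed_words : (codeL.all fun m => !(SylQuot.gT.all fun g => Nat.beq (pmaskF g m) m) ||
    [0, octT, restT, 16777215].any (Nat.beq m)) = true := by decide +kernel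

theorem grow_sub {L : List ℕ} {m₀ : Finset GolayPt} (h : ∀ m ∈ L, ∃ σ ∈ T, σ • m₀ = toSet m)
    (hn : L.Nodup) : (∀ m ∈ grow L, ∃ σ ∈ T, σ • m₀ = toSet m) ∧ (grow L).Nodup := by
  unfold grow
  refine List.foldlRecOn (motive := fun acc : List ℕ => (∀ m ∈ acc, ∃ σ ∈ T, σ • m₀ = toSet m) ∧ acc.Nodup)
    SylQuot.gT _ ⟨h, hn⟩ ?_
  intro acc hacc g hg
  refine List.foldlRecOn (motive := fun acc : List ℕ => (∀ m ∈ acc, ∃ σ ∈ T, σ • m₀ = toSet m) ∧ acc.Nodup) L _ hacc ?_
  intro acc hacc m hm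
  show (∀ m' ∈ (if acc.any (Nat.beq (pmaskF g m)) then acc else pmaskF g m :: acc), _) ∧ _
  by_cases hx : acc.any (Nat.beq (pmaskF g m)) = true
  · rw [if_pos hx]; exact hacc
  · rw [if_neg hx]
    refine ⟨fun m' hm' => ?_, List.nodup_cons.mpr ⟨fun hmem => hx (List.any_eq_true.mpr ⟨_, hmem, Nat.beq_refl _⟩),
      hacc.2⟩⟩
    rcases List.mem_cons.mp hm' with rfl | hm'
    · obtain ⟨τ, hτ, hτr⟩ := T_gens g hg
      obtain ⟨σ, hσ, hσm⟩ := h m hm
      exact ⟨τ * σ, mul_mem hτ hσ, by rw [mul_smul, hσm, pmaskF_eq, hτr.toSet_pmask]; rfl⟩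
    · exact hacc.1 m' hm'

theorem orbL_sub {m₀ : Finset GolayPt} : ∀ (k : ℕ) {L : List ℕ}, (∀ m ∈ L, ∃ σ ∈ T, σ • m₀ = toSet m) → L.Nodup →
    (∀ m ∈ orbL k L, ∃ σ ∈ T, σ • m₀ = toSet m) ∧ (orbL k L).Nodup
  | 0, L, h, hn => ⟨h, hn⟩
  | k + 1, L, h, hn => by
    rw [orbL]
    split_ifs
    · exact ⟨h, hn⟩
    · obtain ⟨h', hn'⟩ := grow_sub h hn
      exact orbL_sub k h' hn'

theorem closed_orbit {L : List ℕ} (hc : closedB L = true) {m : ℕ} (hm : m ∈ L) {σ : P24} (hσ : σ ∈ T) :
    ∃ m' ∈ L, σ • toSet m = toSet m' := by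
  classical
  simp only [closedB, List.all_eq_true, Bool.and_eq_true, decide_eq_true_eq, List.any_eq_true, Nat.beq_eq] at hc
  let F : Finset (Finset GolayPt) := (L.map toSet).toFinset
  have hgen : T ≤ MulAction.stabilizer P24 F := by
    show Subgroup.closure _ ≤ _
    rw [Subgroup.closure_le]
    rintro g ⟨c, hcm, hg⟩
    refine Finset.eq_of_subset_of_card_le (fun y hy => ?_) (by rw [Finset.card_smul_finset])
    obtain ⟨x, hx, rfl⟩ := Finset.mem_smul_finset.mp hy
    obtain ⟨n, hn, rfl⟩ := List.mem_map.mp (List.mem_toFinset.mp hx)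
    obtain ⟨n', hn', he⟩ := (hc n hn).2 c hcm
    refine List.mem_toFinset.mpr (List.mem_map.mpr ⟨n', hn', ?_⟩)
    rw [← he, pmaskF_eq, hg.toSet_pmask]
    rfl
  have hmem : σ • toSet m ∈ σ • F :=
    Finset.smul_mem_smul_finset (List.mem_toFinset.mpr (List.mem_map.mpr ⟨m, hm, rfl⟩))
  rw [show σ • F = F from hgen hσ] at hmem
  obtain ⟨m', hm', he⟩ := List.mem_map.mp (List.mem_toFinset.mp hmem)
  exact ⟨m', hm', he.symm⟩

/-- The orbit of a word under the Sylow subgroup of the permutations. -/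
def orbT (c : Finset GolayPt) : Set (Finset GolayPt) := {d | ∃ σ ∈ T, σ • c = d}

/-- A word with a short orbit holding its translate by `v`. -/
def Short (v : Finset GolayPt) : Prop := ∃ c ∈ CW, (orbT c).ncard ≤ 8 ∧ symmDiff c v ∈ orbT c

theorem not_short_univ : ¬ Short Finset.univ := by
  rintro ⟨c, hc, hcard, hmem⟩
  have h := List.all_eq_true.mp noCompl_all _ (mem_supports.mp hc)
  simp only [noCompl, Bool.or_eq_true, Nat.blt_eq, Bool.and_eq_true, List.any_eq_true, Nat.beq_eq,
    Bool.not_eq_true'] at h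
  obtain ⟨hsub, hn⟩ := orbL_sub (m₀ := c) 8 (L := [toMask c])
    (fun m hm => ⟨1, one_mem _, by rw [one_smul, List.mem_singleton.mp hm, toSet_toMask]⟩) (List.nodup_singleton _)
  rcases h with h | ⟨⟨hcl, x, hx, hxe⟩, hno⟩
  · refine absurd hcard (not_le.mpr (lt_of_lt_of_le h ?_))
    classical
    have hinj : ((orbL 8 [toMask c]).toFinset).card = (orbL 8 [toMask c]).length := List.toFinset_card_of_nodup hn
    rw [← hinj, ← Set.ncard_coe_finset]
    refine le_of_eq_of_le (Set.ncard_image_of_injOn (f := toSet) ?_).symm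
      (Set.ncard_le_ncard ?_ (Set.toFinite _))
    · intro a ha b hb he
      have hlt : ∀ m ∈ orbL 8 [toMask c], m < 2 ^ 24 := by
        intro m hm
        suffices H : ∀ (k : ℕ) (L : List ℕ), (∀ m ∈ L, m < 2 ^ 24) → ∀ m ∈ orbL k L, m < 2 ^ 24 from
          H 8 _ (fun m hm => by rw [List.mem_singleton.mp hm]; exact toMask_lt _) m hm
        intro k
        induction k with
        | zero => exact fun L hL => hL
        | succ k ih =>
          intro L hL
          rw [orbL]
          split_ifs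
          · exact hL
          · refine ih _ ?_
            unfold grow
            refine List.foldlRecOn (motive := fun acc => ∀ m ∈ acc, m < 2 ^ 24) SylQuot.gT _ hL ?_
            intro acc hacc g hg
            refine List.foldlRecOn (motive := fun acc => ∀ m ∈ acc, m < 2 ^ 24) L _ hacc ?_
            intro acc hacc m hm
            obtain ⟨τ, -, hτr⟩ := T_gens g hg
            show ∀ m' ∈ (if acc.any (Nat.beq (pmaskF g m)) then acc else pmaskF g m :: acc), _
            split_ifs
            · exact hacc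
            · intro m' hm'
              rcases List.mem_cons.mp hm' with rfl | hm'
              · exact pmaskF_eq g m ▸ hτr.pmask_lt m
              · exact hacc m' hm'
      exact eq_of_toSet_eq (hlt a (List.mem_toFinset.mp ha)) (hlt b (List.mem_toFinset.mp hb)) he
    · rintro _ ⟨m, hm, rfl⟩
      exact hsub m (List.mem_toFinset.mp hm)
  · obtain ⟨σ, hσ, he⟩ := hmem
    obtain ⟨m', hm', he'⟩ := closed_orbit hcl (m := toMask c) (hxe ▸ hx) hσ
    rw [toSet_toMask, he] at he'
    have hm'lt : m' < 2 ^ 24 := by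
      simp only [closedB, List.all_eq_true, Bool.and_eq_true, decide_eq_true_eq] at hcl
      exact (hcl m' hm').1
    have hfull : toSet 16777215 = Finset.univ := by decide +kernel
    have hmm : Nat.xor (toMask c) 16777215 = m' := by
      refine eq_of_toSet_eq (Nat.xor_lt_two_pow (toMask_lt _) (by norm_num)) hm'lt ?_
      rw [show Nat.xor (toMask c) 16777215 = toMask c ^^^ 16777215 from rfl, toSet_xor, toSet_toMask, hfull, he']
    rw [List.any_eq_false] at hno
    exact hno m' hm' (by rw [hmm]; exact Nat.beq_refl _)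

theorem short_of_list {m v : ℕ} (hm : inCode m = true) (hmlt : m < 2 ^ 24)
    (h : (let L := orbL 8 [m]
          closedB L && Nat.ble L.length 8 && L.any (Nat.beq m) && L.any (Nat.beq (Nat.xor m v))) = true) :
    Short (toSet v) := by
  classical
  simp only [Bool.and_eq_true, Nat.ble_eq, List.any_eq_true, Nat.beq_eq] at h
  obtain ⟨⟨⟨hcl, hlen⟩, x, hx, rfl⟩, y, hy, rfl⟩ := h
  refine ⟨toSet m, mem_supports.mpr (by rw [toMask_toSet hmlt]; exact mem_codeL_of_inCode hmlt hm), ?_, ?_⟩
  · refine le_trans (Set.ncard_le_ncard (t := toSet '' (↑(orbL 8 [m]).toFinset : Set ℕ)) ?_ (Set.toFinite _)) ?_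
    · rintro _ ⟨σ, hσ, rfl⟩
      obtain ⟨m', hm', he⟩ := closed_orbit hcl hx hσ
      exact ⟨m', List.mem_toFinset.mpr hm', he.symm⟩
    · refine (Set.ncard_image_le (Set.toFinite _)).trans ?_
      rw [Set.ncard_coe_finset]
      exact (List.toFinset_card_le _).trans hlen
  · obtain ⟨hsub, -⟩ := orbL_sub (m₀ := toSet m) 8 (L := [m])
      (fun n hn => ⟨1, one_mem _, by rw [one_smul, List.mem_singleton.mp hn]⟩) (List.nodup_singleton _)
    obtain ⟨σ, hσ, he⟩ := hsub _ hy
    exact ⟨σ, hσ, he.trans (by rw [show Nat.xor m v = m ^^^ v from rfl, toSet_xor])⟩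

/-- The fixed octad. -/
def OT : Finset GolayPt := toSet octT

theorem OT_mem : OT ∈ CW :=
  toSet_mem_CW (by rw [short_witness.2.2.2.2.1]; rfl)

theorem OT_card : OT.card = 8 := by
  rw [OT, card_toSet]; exact short_witness.2.2.2.2.2.1

theorem OT_compl : OTᶜ = toSet restT := by
  have h1 : toSet 16777215 = Finset.univ := by decide +kernel
  rw [← short_witness.2.2.2.2.2.2.1, show Nat.xor octT 16777215 = octT ^^^ 16777215 from rfl, toSet_xor, h1, OT,
    ← Finset.top_eq_univ, symmDiff_top, hnot_eq_compl]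

theorem OT_fix {σ : P24} (hσ : σ ∈ T) : σ • OT = OT := by
  have hgen : T ≤ MulAction.stabilizer P24 OT := by
    show Subgroup.closure _ ≤ _
    rw [Subgroup.closure_le]
    rintro g ⟨c, hc, hg⟩
    have h := List.all_eq_true.mp short_witness.2.2.2.2.2.2.2 c hc
    have h' := congrArg toSet (Nat.eq_of_beq_eq_true h)
    rw [pmaskF_eq, hg.toSet_pmask] at h'
    exact h'
  exact hgen hσ

theorem short_OT : Short OT :=
  short_of_list short_witness.2.2.1 (by norm_num) short_witness.1

theorem short_OT_compl : Short OTᶜ := by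
  rw [OT_compl]
  exact short_of_list short_witness.2.2.2.1 (by norm_num) short_witness.2.1

/-- The words fixed by the Sylow subgroup of the permutations. -/
theorem fixed_by_T {c : Finset GolayPt} (hc : c ∈ CW) (h : ∀ σ ∈ T, σ • c = c) :
    c = ∅ ∨ c = OT ∨ c = OTᶜ ∨ c = Finset.univ := by
  have hA := List.all_eq_true.mp fixed_words _ (mem_supports.mp hc)
  simp only [Bool.or_eq_true, Bool.not_eq_true', List.all_eq_false, List.any_eq_true, Nat.beq_eq] at hA
  rcases hA with ⟨g, hg, hne⟩ | ⟨m, hm, he⟩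
  · obtain ⟨τ, hτ, hτr⟩ := T_gens g hg
    refine absurd ?_ hne
    refine eq_of_toSet_eq (pmaskF_eq g _ ▸ hτr.pmask_lt _) (toMask_lt _) ?_
    rw [pmaskF_eq, hτr.toSet_pmask, toSet_toMask]
    exact h τ hτ
  · have hcm : c = toSet m := by rw [← he, toSet_toMask]
    have h1 : toSet 16777215 = Finset.univ := by decide +kernel
    simp only [List.mem_cons, List.not_mem_nil, or_false] at hm
    rcases hm with rfl | rfl | rfl | rfl
    · exact Or.inl (hcm.trans toSet_zero_empty)
    · exact Or.inr (Or.inl hcm)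
    · exact Or.inr (Or.inr (Or.inl (hcm.trans OT_compl.symm)))
    · exact Or.inr (Or.inr (Or.inr (hcm.trans h1)))

theorem mono_inj' {σ τ : P24} {hσ : σ ∈ M24} {hτ : τ ∈ M24} {c d : Finset GolayPt} {hc : c ∈ CW} {hd : d ∈ CW}
    (h : monoAut σ hσ c hc = monoAut τ hτ d hd) : σ = τ ∧ c = d :=
  signedPerm_inj fun x hx => by
    have h5 := congrArg (fun g : ↥Co0 => ((g • (⟨x, hx⟩ : ↥leechLattice) : ↥leechLattice) : GolayPt → ℤ)) h
    simp only [monoAut_apply] at h5
    exact h5

theorem mono_one : monoAut 1 (one_mem _) ∅ CW_empty = 1 := sgn_empty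

/-- A Sylow 2-subgroup of the monomial group. -/
def S0 : Subgroup ↥Co0 where
  carrier := {x | ∃ σ : ↥M24, σ.1 ∈ T ∧ ∃ c, ∃ hc : c ∈ CW, x = monoAut σ.1 σ.2 c hc}
  one_mem' := ⟨1, one_mem _, ∅, CW_empty, mono_one.symm⟩
  mul_mem' := by
    rintro _ _ ⟨σ, hσ, c, hc, rfl⟩ ⟨τ, hτ, d, hd, rfl⟩
    exact ⟨σ * τ, mul_mem hσ hτ, _, _, mono_mul hc hd⟩
  inv_mem' := by
    rintro _ ⟨σ, hσ, c, hc, rfl⟩
    refine ⟨σ⁻¹, inv_mem hσ, (σ⁻¹ : ↥M24).1 • c, smul_CW (σ⁻¹).2 hc, ?_⟩
    rw [inv_eq_iff_mul_eq_one, mono_mul]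
    rw [← mono_one]
    congr 1
    · exact congrArg Subtype.val (mul_inv_cancel σ)
    · rw [← mul_smul, show σ.1 * (σ⁻¹ : ↥M24).1 = 1 from congrArg Subtype.val (mul_inv_cancel σ), one_smul]
      exact symmDiff_self c

theorem mem_S0 {x : ↥Co0} : x ∈ S0 ↔ ∃ σ : ↥M24, σ.1 ∈ T ∧ ∃ c, ∃ hc : c ∈ CW, x = monoAut σ.1 σ.2 c hc := Iff.rfl

theorem S0_le : S0 ≤ crossStab := by
  rintro _ ⟨σ, -, c, hc, rfl⟩
  exact monoAut_keeps σ.2 hc

theorem sgn_mem_S0 {c : Finset GolayPt} (hc : c ∈ CW) : sgn c hc ∈ S0 := ⟨1, one_mem _, c, hc, rfl⟩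

theorem negAut_mem_S0 : negAut ∈ S0 := sgn_mem_S0 CW_univ

theorem S0_card : Nat.card ↥S0 = 2 ^ 22 := by
  let F : ↥T × ↥CW → ↥S0 := fun q =>
    ⟨monoAut q.1.1 (spanH_le q.1.2) q.2.1 q.2.2, ⟨⟨q.1.1, spanH_le q.1.2⟩, q.1.2, q.2.1, q.2.2, rfl⟩⟩
  have hF : Function.Bijective F := by
    refine ⟨fun ⟨⟨σ, hσ⟩, ⟨c, hc⟩⟩ ⟨⟨τ, hτ⟩, ⟨d, hd⟩⟩ h => ?_, ?_⟩
    · obtain ⟨rfl, rfl⟩ := mono_inj' (hσ := spanH_le hσ) (hτ := spanH_le hτ) (hc := hc) (hd := hd) (congrArg Subtype.val h)
      rfl
    · rintro ⟨_, σ, hσ, c, hc, rfl⟩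
      exact ⟨(⟨σ.1, hσ⟩, ⟨c, hc⟩), rfl⟩
  rw [← Nat.card_eq_of_bijective F hF, Nat.card_prod, card_T, Nat.card_coe_set_eq, CW_ncard]; norm_num

theorem conj_sgn {σ : ↥M24} {e : Finset GolayPt} (he : e ∈ CW) {c : Finset GolayPt} (hc : c ∈ CW) :
    monoAut σ.1 σ.2 e he * sgn c hc * (monoAut σ.1 σ.2 e he)⁻¹ = sgn (σ.1 • c) (smul_CW σ.2 hc) :=
  mono_conj_sgn σ.2 he hc

theorem sgn_inj {c d : Finset GolayPt} {hc : c ∈ CW} {hd : d ∈ CW} (h : sgn c hc = sgn d hd) : c = d :=
  (mono_inj' h).2

end CfsgLib.StdConway
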