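/-
The centraliser of the central involution of a standard subgroup of shape `2.Co1`, and its Sylow 2-subgroup.
-/
import Cfsg.Agent.Lib.Leech.OutCo1
import Cfsg.Agent.Lib.StdConway.Sylow
import Cfsg.Agent.S1754
import Cfsg.Prelude.Def_Local

set_option autoImplicit false
set_option maxHeartbeats 800000

namespace CfsgLib.StdConway

open Cfsg CfsgGolay CfsgLeech CfsgLeech.Out1
open CfsgLeech.OctInv (prj prj_eq)
open scoped Pointwise commutatorElement

attribute [local irreducible] codeL octadL dodecadL slpCodes sylowM24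

local notation "P24" => Equiv.Perm GolayPt

theorem co0_fac : (Nat.card ↥Co0).factorization 2 = 22 := by
  rw [co0_card, show (8315553613086720000 : ℕ) = 2 ^ 22 * 1982582476875 from by norm_num,
    Nat.factorization_mul (by norm_num) (by norm_num), Finsupp.add_apply,
    Nat.factorization_eq_zero_of_not_dvd (by norm_num : ¬ 2 ∣ 1982582476875), add_zero, Nat.factorization_pow,
    Finsupp.smul_apply, Nat.Prime.factorization_self Nat.prime_two, smul_eq_mul, mul_one]

theorem negAut_ne_one : negAut ≠ (1 : ↥Co0) := by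
  intro h
  rw [← mono_one] at h
  exact absurd (mono_inj' (h : monoAut 1 _ Finset.univ CW_univ = _)).2 Finset.univ_nonempty.ne_empty

theorem negAut_sq : negAut * negAut = (1 : ↥Co0) := by
  show sgn Finset.univ CW_univ * sgn Finset.univ CW_univ = 1
  rw [sgn_mul, ← sgn_empty]
  exact sgn_congr (symmDiff_self _)

theorem center_map_aut (α : MulAut ↥Co0) :
    (Subgroup.center ↥Co0).map (α : ↥Co0 →* ↥Co0) = Subgroup.center ↥Co0 := by
  ext y
  rw [Subgroup.mem_map]
  constructor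
  · rintro ⟨x, hx, rfl⟩
    refine Subgroup.mem_center_iff.2 fun w => ?_
    obtain ⟨v, rfl⟩ := α.surjective w
    exact (map_mul α v x).symm.trans ((congrArg α (Subgroup.mem_center_iff.1 hx v)).trans (map_mul α x v))
  · intro hy
    refine ⟨α.symm y, Subgroup.mem_center_iff.2 fun v => α.injective ?_, α.apply_symm_apply y⟩
    rw [map_mul, map_mul, α.apply_symm_apply]
    exact Subgroup.mem_center_iff.1 hy _

/-- An automorphism of a perfect group trivial modulo the centre is trivial; here: every automorphism is inner. -/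
theorem co0_aut_inner (hperf : Group.IsPerfect ↥Co0) (α : MulAut ↥Co0) : ∃ h, ∀ x, α x = h * x * h⁻¹ := by
  obtain ⟨g, hg⟩ := aut_inner (QuotientGroup.congr (Subgroup.center ↥Co0) (Subgroup.center ↥Co0) α
    (center_map_aut α))
  obtain ⟨h, rfl⟩ : ∃ h, prj h = g := QuotientGroup.mk'_surjective _ g
  refine ⟨h, fun x => ?_⟩
  let δ : ↥Co0 →* ↥(Subgroup.center ↥Co0) := MonoidHom.mk'
    (fun y => ⟨(h * y * h⁻¹)⁻¹ * α y, by
      rw [← QuotientGroup.eq]
      have h1 := MulEquiv.congr_fun hg (prj y)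
      exact (map_mul prj _ _).trans (by rw [map_mul, map_inv]; exact h1)⟩)
    (fun y w => by
      refine Subtype.ext ?_
      have hc : (h * y * h⁻¹)⁻¹ * α y ∈ Subgroup.center ↥Co0 := by
        rw [← QuotientGroup.eq]
        have h1 := MulEquiv.congr_fun hg (prj y)
        exact (map_mul prj _ _).trans (by rw [map_mul, map_inv]; exact h1)
      show (h * (y * w) * h⁻¹)⁻¹ * α (y * w) = (h * y * h⁻¹)⁻¹ * α y * ((h * w * h⁻¹)⁻¹ * α w)
      rw [← mul_assoc ((h * y * h⁻¹)⁻¹ * α y), ← (Subgroup.mem_center_iff.1 hc (h * w * h⁻¹)⁻¹),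
        map_mul]
      group)
  have htriv : δ.ker = ⊤ := by
    refine top_le_iff.1 ?_
    rw [← (Group.isPerfect_def.1 hperf)]
    rw [commutator_def, Subgroup.commutator_le]
    intro a _ b _
    rw [MonoidHom.mem_ker, map_commutatorElement, commutatorElement_eq_one_iff_mul_comm]
    exact Subtype.ext (Subgroup.mem_center_iff.1 (δ b).2 _)
  have hx : δ x = 1 := MonoidHom.mem_ker.1 (htriv ▸ Subgroup.mem_top x)
  exact (inv_mul_eq_one.1 (congrArg Subtype.val hx)).symm

variable {G : Type*} [Group G] {A : Subgroup G}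

/-- The standing hypotheses, with a chosen isomorphism and a chosen Sylow subgroup of the centraliser. -/
structure Hyp (A : Subgroup G) where
  /-- the identification -/
  e : ↥A ≃* ↥Co0
  std : IsStandardSubgroup A
  /-- a Sylow subgroup of the centraliser -/
  R : Sylow 2 ↥(Subgroup.centralizer (A : Set G))
  cyc : IsCyclic ↥(R : Subgroup ↥(Subgroup.centralizer (A : Set G)))

variable (H : Hyp A)

local notation "K" => Subgroup.centralizer (A : Set G)

/-- The embedding of the lattice group. -/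
def Hyp.ι : ↥Co0 →* G := A.subtype.comp H.e.symm.toMonoidHom

/-- The central involution. -/
noncomputable def Hyp.z : G := H.ι negAut

theorem Hyp.ι_inj : Function.Injective H.ι := Subtype.val_injective.comp H.e.symm.injective

theorem Hyp.ι_mem (x : ↥Co0) : H.ι x ∈ A := (H.e.symm x).2

theorem Hyp.ι_surj {a : G} (ha : a ∈ A) : ∃ x, H.ι x = a :=
  ⟨H.e ⟨a, ha⟩, congrArg Subtype.val (H.e.symm_apply_apply ⟨a, ha⟩)⟩

theorem Hyp.ι_comm {k : G} (hk : k ∈ K) (x : ↥Co0) : H.ι x * k = k * H.ι x := hk _ (H.ι_mem x)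

theorem Hyp.center_of_mem {x : ↥Co0} (hx : H.ι x ∈ K) : x = 1 ∨ x = negAut :=
  center_eq (Subgroup.mem_center_iff.2 fun y => H.ι_inj (by rw [map_mul, map_mul]; exact H.ι_comm hx y))

theorem Hyp.z_mem_K : H.z ∈ K := fun a ha => by
  obtain ⟨x, rfl⟩ := H.ι_surj ha
  rw [Hyp.z, ← map_mul, ← map_mul]
  exact congrArg H.ι (Subgroup.mem_center_iff.1 negAut_central x)

theorem Hyp.z_sq : H.z * H.z = 1 := by rw [Hyp.z, ← map_mul, negAut_sq, map_one]

theorem Hyp.z_ne : H.z ≠ 1 := fun h => negAut_ne_one (H.ι_inj (h.trans (map_one _).symm))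

theorem Hyp.orderOf_z : orderOf H.z = 2 := orderOf_eq_prime (by rw [pow_two, H.z_sq]) H.z_ne

include H in
theorem Hyp.perfect : Group.IsPerfect ↥Co0 :=
  haveI : Group.IsPerfect ↥A := H.std.1.1
  Group.IsPerfect.ofSurjective (f := H.e.toMonoidHom) H.e.surjective

variable [Finite G]

/-- The normaliser is the product with the centraliser. -/
theorem Hyp.normalizer_mem {g : G} (hg : g ∈ Subgroup.normalizer (A : Set G)) :
    ∃ x, ∃ k ∈ K, g = H.ι x * k := by
  let β : MulAut ↥A := A.normalizerMonoidHom ⟨g, hg⟩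
  obtain ⟨h, hh⟩ := co0_aut_inner H.perfect ((H.e.symm.trans β).trans H.e)
  refine ⟨h, (H.ι h)⁻¹ * g, fun a ha => ?_, (mul_inv_cancel_left _ _).symm⟩
  obtain ⟨x, rfl⟩ := H.ι_surj ha
  have h2 : β (H.e.symm x) = H.e.symm (h * x * h⁻¹) := by
    rw [← hh x]
    simp only [MulEquiv.trans_apply, MulEquiv.symm_apply_apply]
  have h1 : g * H.ι x * g⁻¹ = H.ι (h * x * h⁻¹) := congrArg Subtype.val h2
  rw [map_mul, map_mul, map_inv, mul_inv_eq_iff_eq_mul] at h1
  rw [mul_assoc (H.ι h)⁻¹ g, h1]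
  group

theorem Hyp.cent_le : Subgroup.centralizer ({H.z} : Set G) ≤ Subgroup.normalizer (A : Set G) :=
  (Cfsg.Agent.S1754.result A H.std H.z H.orderOf_z H.z_mem_K).1

theorem Hyp.mem_cent {g : G} : g ∈ Subgroup.centralizer ({H.z} : Set G) ↔ ∃ x, ∃ k ∈ K, g = H.ι x * k := by
  refine ⟨fun hg => H.normalizer_mem (H.cent_le hg), ?_⟩
  rintro ⟨x, k, hk, rfl⟩
  rw [Subgroup.mem_centralizer_singleton_iff]
  have h1 : H.ι x * H.z = H.z * H.ι x := H.z_mem_K _ (H.ι_mem x)
  have h2 : k * H.z = H.z * k := (hk _ (H.ι_mem negAut)).symm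
  rw [mul_assoc, h2, ← mul_assoc, h1, mul_assoc]

/-- The product map. -/
def Hyp.φ : ↥Co0 × ↥K →* G :=
  MonoidHom.noncommCoprod H.ι (Subgroup.subtype K) fun x k => H.ι_comm k.2 x

theorem Hyp.φ_range : H.φ.range = Subgroup.centralizer ({H.z} : Set G) := by
  ext g
  rw [H.mem_cent, MonoidHom.mem_range]
  constructor
  · rintro ⟨⟨x, k⟩, rfl⟩; exact ⟨x, k, k.2, rfl⟩
  · rintro ⟨x, k, hk, rfl⟩; exact ⟨(x, ⟨k, hk⟩), rfl⟩

theorem Hyp.φ_ker_iff (q : ↥Co0 × ↥K) : H.φ q = 1 ↔ q = 1 ∨ q = (negAut, ⟨H.z, H.z_mem_K⟩) := by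
  obtain ⟨x, k⟩ := q
  show H.ι x * (k : G) = 1 ↔ _
  constructor
  · intro h
    have hk : (k : G) = (H.ι x)⁻¹ := eq_inv_of_mul_eq_one_right h
    have hx : H.ι x ∈ K := by
      have := inv_mem k.2
      rwa [hk, inv_inv] at this
    rcases H.center_of_mem hx with rfl | rfl
    · exact Or.inl (Prod.ext rfl (Subtype.ext (by rw [hk, map_one, inv_one]; rfl)))
    · refine Or.inr (Prod.ext rfl (Subtype.ext ?_))
      show (k : G) = H.z
      rw [hk]; exact inv_eq_of_mul_eq_one_right H.z_sq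
  · rintro (h | h) <;> obtain ⟨rfl, rfl⟩ := Prod.ext_iff.1 h
    · simp
    · exact H.z_sq

/-- The image of a subgroup containing the kernel has half the order. -/
theorem Hyp.card_map (P : Subgroup (↥Co0 × ↥K)) (hP : (negAut, ⟨H.z, H.z_mem_K⟩) ∈ P) :
    Nat.card ↥(P.map H.φ) * 2 = Nat.card ↥P := by
  haveI := co0_finite
  have hker : (H.φ.comp P.subtype).ker = Subgroup.zpowers (⟨_, hP⟩ : ↥P) := by
    ext q
    rw [MonoidHom.mem_ker, MonoidHom.comp_apply, H.φ_ker_iff]
    constructor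
    · rintro (h | h)
      · rw [show q = 1 from Subtype.ext h]; exact one_mem _
      · rw [show q = ⟨_, hP⟩ from Subtype.ext h]; exact Subgroup.mem_zpowers _
    · intro h
      obtain ⟨n, rfl⟩ := Subgroup.mem_zpowers_iff.1 h
      rcases Int.even_or_odd n with ⟨m, rfl⟩ | ⟨m, rfl⟩
      · left
        rw [Subgroup.subtype_apply, SubgroupClass.coe_zpow, ← two_mul, zpow_mul]
        simp [pow_two, Prod.ext_iff, negAut_sq, Subtype.ext_iff, H.z_sq]
      · right
        rw [Subgroup.subtype_apply, SubgroupClass.coe_zpow, zpow_add_one, zpow_mul]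
        simp [pow_two, Prod.ext_iff, negAut_sq, Subtype.ext_iff, H.z_sq]
  have h := (H.φ.comp P.subtype).ker.card_mul_index
  rw [Subgroup.index_ker, MonoidHom.range_comp, Subgroup.range_subtype, hker, Nat.card_zpowers] at h
  rw [orderOf_eq_prime (p := 2)] at h
  · rw [← h, mul_comm]
  · rw [pow_two]
    exact Subtype.ext (Prod.ext negAut_sq (Subtype.ext H.z_sq))
  · intro h1
    exact negAut_ne_one (congrArg (fun q : ↥P => q.1.1) h1)

/-- The chosen Sylow subgroup, in the whole group. -/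
def Hyp.Rg : Subgroup G := (H.R : Subgroup ↥K).map (Subgroup.subtype K)

theorem Hyp.z_mem_R : (⟨H.z, H.z_mem_K⟩ : ↥K) ∈ (H.R : Subgroup ↥K) := by
  have hc : (⟨H.z, H.z_mem_K⟩ : ↥K) ∈ Subgroup.center ↥K :=
    Subgroup.mem_center_iff.2 fun k => Subtype.ext ((k.2 _ (H.ι_mem negAut)).symm)
  have hp : IsPGroup 2 (Subgroup.zpowers (⟨H.z, H.z_mem_K⟩ : ↥K)) := IsPGroup.of_card (n := 1) (by
    rw [Nat.card_zpowers, Subgroup.orderOf_mk, H.orderOf_z]; norm_num)
  have hn : Subgroup.zpowers (⟨H.z, H.z_mem_K⟩ : ↥K) ≤ Subgroup.normalizer ((H.R : Subgroup ↥K) : Set ↥K) := by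
    rw [Subgroup.zpowers_le, Subgroup.mem_normalizer_iff]
    intro k
    have hk := Subgroup.mem_center_iff.1 hc k
    rw [← hk, mul_inv_cancel_right]
  exact (H.R.3 (IsPGroup.to_sup_of_normal_right' hp H.R.2 hn) le_sup_right) ▸
    Subgroup.mem_sup_left (Subgroup.mem_zpowers _)

theorem Hyp.R_sq {k : ↥K} (hk : k ∈ (H.R : Subgroup ↥K)) (hk2 : k * k = 1) : (k : G) = 1 ∨ (k : G) = H.z := by
  haveI := H.cyc
  by_contra h
  push Not at h
  have hne : (⟨k, hk⟩ : ↥(H.R : Subgroup ↥K)) ≠ 1 := fun e => h.1 (congrArg (fun q : ↥(H.R : Subgroup ↥K) => ((q : ↥K) : G)) e)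
  have hzne : (⟨_, H.z_mem_R⟩ : ↥(H.R : Subgroup ↥K)) ≠ 1 := fun e =>
    H.z_ne (congrArg (fun q : ↥(H.R : Subgroup ↥K) => ((q : ↥K) : G)) e)
  classical
  haveI : Fintype ↥(H.R : Subgroup ↥K) := Fintype.ofFinite _
  have hle := IsCyclic.card_pow_eq_one_le (α := ↥(H.R : Subgroup ↥K)) (n := 2) (by norm_num)
  have hsub : ({1, ⟨k, hk⟩, ⟨_, H.z_mem_R⟩} : Finset ↥(H.R : Subgroup ↥K)) ⊆
      Finset.univ.filter fun q => q ^ 2 = 1 := by
    intro q hq
    simp only [Finset.mem_insert, Finset.mem_singleton] at hq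
    simp only [Finset.mem_filter, Finset.mem_univ, true_and, pow_two]
    rcases hq with rfl | rfl | rfl
    · exact one_mul 1
    · exact Subtype.ext hk2
    · exact Subtype.ext (Subtype.ext H.z_sq)
  have h5 : ({1, ⟨k, hk⟩, ⟨_, H.z_mem_R⟩} : Finset ↥(H.R : Subgroup ↥K)).card = 3 := by
    rw [Finset.card_insert_of_notMem, Finset.card_pair]
    · exact fun e => h.2 (congrArg (fun q : ↥(H.R : Subgroup ↥K) => ((q : ↥K) : G)) e)
    · simp only [Finset.mem_insert, Finset.mem_singleton]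
      rintro (e | e)
      · exact hne e.symm
      · exact hzne e.symm
  have := (Finset.card_le_card hsub).trans hle
  omega

/-- The Sylow subgroup of the centraliser. -/
def Hyp.S : Subgroup G := (S0.prod (H.R : Subgroup ↥K)).map H.φ

theorem Hyp.mem_S {g : G} : g ∈ H.S ↔ ∃ x ∈ S0, ∃ r : ↥K, r ∈ (H.R : Subgroup ↥K) ∧ g = H.ι x * r := by
  constructor
  · rintro ⟨⟨x, r⟩, ⟨hx, hr⟩, rfl⟩; exact ⟨x, hx, r, hr, rfl⟩
  · rintro ⟨x, hx, r, hr, rfl⟩; exact ⟨(x, r), ⟨hx, hr⟩, rfl⟩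

theorem Hyp.S_le : H.S ≤ Subgroup.centralizer ({H.z} : Set G) := by
  rw [← H.φ_range]; exact Subgroup.map_le_range _ _

theorem Hyp.cent_card : Nat.card ↥(Subgroup.centralizer ({H.z} : Set G)) * 2 = Nat.card ↥Co0 * Nat.card ↥K := by
  rw [← H.φ_range, MonoidHom.range_eq_map, H.card_map _ (Subgroup.mem_top _),
    Nat.card_congr Subgroup.topEquiv.toEquiv, Nat.card_prod]

theorem Hyp.S_card : Nat.card ↥H.S * 2 = 2 ^ 22 * Nat.card ↥(H.R : Subgroup ↥K) := by
  rw [Hyp.S, H.card_map _ (Subgroup.mem_prod.2 ⟨negAut_mem_S0, H.z_mem_R⟩), Nat.card_congr (Subgroup.prodEquiv _ _).toEquiv,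
    Nat.card_prod, S0_card]

theorem Hyp.S_pgroup : IsPGroup 2 ↥H.S := by
  refine IsPGroup.map ?_ _
  obtain ⟨n, hn⟩ := IsPGroup.iff_card.1 H.R.2
  refine IsPGroup.of_card (n := 22 + n) ?_
  rw [Nat.card_congr (Subgroup.prodEquiv _ _).toEquiv, Nat.card_prod, S0_card, hn, pow_add]

/-- The subgroup is a Sylow subgroup of the centraliser. -/
theorem Hyp.S_max {P : Subgroup G} (hP : IsPGroup 2 ↥P) (hle : H.S ≤ P)
    (hPC : P ≤ Subgroup.centralizer ({H.z} : Set G)) : P = H.S := by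
  haveI := co0_finite
  haveI : Fact (Nat.Prime 2) := ⟨Nat.prime_two⟩
  obtain ⟨n, hn⟩ := IsPGroup.iff_card.1 hP
  obtain ⟨s, hs⟩ := IsPGroup.iff_card.1 H.S_pgroup
  obtain ⟨r, hr⟩ := IsPGroup.iff_card.1 H.R.2
  have hS := H.S_card
  rw [hs, hr, ← pow_succ, ← pow_add] at hS
  have hs' := Nat.pow_right_injective (le_refl 2) hS
  have hd : 2 ^ (n + 1) ∣ Nat.card ↥Co0 * Nat.card ↥K := by
    rw [← H.cent_card, pow_succ]
    exact Nat.mul_dvd_mul_right (hn ▸ Subgroup.card_dvd_of_le hPC) 2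
  have hRK : (Nat.card ↥K).factorization 2 = r := by
    have := H.R.card_eq_multiplicity
    rw [hr] at this
    exact (Nat.pow_right_injective (le_refl 2) this).symm
  have h3 := (Nat.Prime.pow_dvd_iff_le_factorization Nat.prime_two
    (mul_ne_zero Nat.card_pos.ne' Nat.card_pos.ne')).1 hd
  rw [Nat.factorization_mul Nat.card_pos.ne' Nat.card_pos.ne', Finsupp.add_apply, co0_fac, hRK] at h3
  refine (Subgroup.eq_of_le_of_card_ge hle ?_).symm
  rw [hn, hs]
  exact Nat.pow_le_pow_right (by norm_num) (by omega)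

end CfsgLib.StdConway
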