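/-
The sign changes are the only elementary abelian subgroup of their order in the Sylow subgroup, and weakly closed.
-/
import Cfsg.Agent.Lib.StdConway.Setup

set_option autoImplicit false
set_option maxHeartbeats 800000

namespace CfsgLib.StdConway

open Cfsg CfsgGolay CfsgLeech CfsgLeech.Out1
open scoped Pointwise

attribute [local irreducible] codeL octadL dodecadL slpCodes sylowM24

local notation "P24" => Equiv.Perm GolayPt
local notation "T" => spanH SylQuot.gT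

variable {G : Type*} [Group G] {A : Subgroup G} (H : Hyp A)

local notation "K" => Subgroup.centralizer (A : Set G)

/-- The image of the sign changes. -/
noncomputable def Hyp.E : Subgroup G := signSub.map H.ι

theorem Hyp.mem_E {g : G} : g ∈ H.E ↔ ∃ c, ∃ hc : c ∈ CW, H.ι (sgn c hc) = g := by
  constructor
  · rintro ⟨_, ⟨c, hc, rfl⟩, rfl⟩; exact ⟨c, hc, rfl⟩
  · rintro ⟨c, hc, rfl⟩; exact ⟨_, ⟨c, hc, rfl⟩, rfl⟩

theorem Hyp.E_comm {a b : G} (ha : a ∈ H.E) (hb : b ∈ H.E) : a * b = b * a := by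
  obtain ⟨c, hc, rfl⟩ := H.mem_E.1 ha
  obtain ⟨d, hd, rfl⟩ := H.mem_E.1 hb
  rw [← map_mul, ← map_mul, sgn_comm]

theorem Hyp.E_sq {a : G} (ha : a ∈ H.E) : a * a = 1 := by
  obtain ⟨c, hc, rfl⟩ := H.mem_E.1 ha
  rw [← map_mul, sgn_mul, ← map_one H.ι, ← sgn_empty]
  exact congrArg H.ι (sgn_congr (symmDiff_self c))

theorem Hyp.E_card : Nat.card ↥H.E = 4096 := by
  rw [Hyp.E, Subgroup.card_map_of_injective H.ι_inj, signSub_equiv_card]

theorem Hyp.z_mem_E : H.z ∈ H.E := H.mem_E.2 ⟨Finset.univ, CW_univ, rfl⟩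

variable [Finite G]

theorem Hyp.E_le_S : H.E ≤ H.S := by
  intro g hg
  obtain ⟨c, hc, rfl⟩ := H.mem_E.1 hg
  exact H.mem_S.2 ⟨_, sgn_mem_S0 hc, 1, one_mem _, by simp⟩

/-- Conjugation of a sign change by an element of the centraliser. -/
theorem Hyp.conj_sgn' (σ : ↥M24) {e : Finset GolayPt} (he : e ∈ CW) {k : G} (hk : k ∈ K) {c : Finset GolayPt}
    (hc : c ∈ CW) : (H.ι (monoAut σ.1 σ.2 e he) * k) * H.ι (sgn c hc) * (H.ι (monoAut σ.1 σ.2 e he) * k)⁻¹ =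
      H.ι (sgn (σ.1 • c) (smul_CW σ.2 hc)) := by
  rw [← conj_sgn he hc, map_mul, map_mul, map_inv, mul_inv_rev, mul_assoc (H.ι (monoAut σ.1 σ.2 e he)) k,
    ← H.ι_comm hk]
  group

theorem Hyp.S_normalises {s g : G} (hs : s ∈ H.S) (hg : g ∈ H.E) : s * g * s⁻¹ ∈ H.E := by
  obtain ⟨_, ⟨σ, -, e, he, rfl⟩, r, -, rfl⟩ := H.mem_S.1 hs
  obtain ⟨c, hc, rfl⟩ := H.mem_E.1 hg
  exact H.mem_E.2 ⟨_, _, (H.conj_sgn' σ he r.2 hc).symm⟩

/-- The permutation part of an element of the Sylow subgroup. -/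
theorem Hyp.perm_unique {σ τ : ↥M24} {c d : Finset GolayPt} {hc : c ∈ CW} {hd : d ∈ CW} {k l : ↥K}
    (h : H.ι (monoAut σ.1 σ.2 c hc) * k = H.ι (monoAut τ.1 τ.2 d hd) * l) : σ = τ := by
  have hmem : H.ι ((monoAut τ.1 τ.2 d hd)⁻¹ * monoAut σ.1 σ.2 c hc) ∈ K := by
    rw [map_mul, map_inv, show (H.ι (monoAut τ.1 τ.2 d hd))⁻¹ * H.ι (monoAut σ.1 σ.2 c hc) = (l : G) * (k : G)⁻¹ by
      rw [eq_mul_inv_iff_mul_eq, mul_assoc, h, inv_mul_cancel_left]]
    exact mul_mem l.2 (inv_mem k.2)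
  have key : ∀ e, ∀ he : e ∈ CW, monoAut σ.1 σ.2 c hc = monoAut τ.1 τ.2 d hd * sgn e he → σ = τ := by
    intro e he heq
    have h2 : monoAut τ.1 τ.2 d hd * monoAut (1 : ↥M24).1 (1 : ↥M24).2 e he = _ := mono_mul hd he
    rw [show sgn e he = monoAut (1 : ↥M24).1 (1 : ↥M24).2 e he from rfl, h2] at heq
    exact Subtype.ext ((mono_inj' heq).1.trans (congrArg Subtype.val (mul_one τ)))
  rcases H.center_of_mem hmem with e | e
  · refine key ∅ CW_empty ?_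
    rw [sgn_empty, mul_one]
    exact (inv_mul_eq_one.1 e).symm
  · exact key _ CW_univ (inv_mul_eq_iff_eq_mul.1 e)

set_option maxHeartbeats 1600000 in
/-- An elementary abelian subgroup of order at least `4096` of the Sylow subgroup is the sign group. -/
theorem Hyp.elementary_eq {F : Subgroup G} (hF : F ≤ H.S) (hsq : ∀ f ∈ F, f * f = 1) (hcard : 4096 ≤ Nat.card ↥F) :
    F = H.E := by
  classical
  haveI := co0_finite
  have hcomm : ∀ a ∈ F, ∀ b ∈ F, a * b = b * a := fun a ha b hb => by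
    have h1 := hsq _ (mul_mem ha hb)
    calc a * b = (a * b)⁻¹ := (inv_eq_of_mul_eq_one_right h1).symm
      _ = b * a := by rw [mul_inv_rev, inv_eq_of_mul_eq_one_right (hsq a ha), inv_eq_of_mul_eq_one_right (hsq b hb)]
  have hrep : ∀ f : ↥F, ∃ σ : ↥M24, σ.1 ∈ T ∧ ∃ c, ∃ hc : c ∈ CW, ∃ r : ↥K,
      r ∈ (H.R : Subgroup ↥K) ∧ (f : G) = H.ι (monoAut σ.1 σ.2 c hc) * r := fun f => by
    obtain ⟨_, ⟨σ, hσ, c, hc, rfl⟩, r, hr, hf⟩ := H.mem_S.1 (hF f.2)
    exact ⟨σ, hσ, c, hc, r, hr, hf⟩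
  choose σ hσT c hc r hr hf using hrep
  let π : ↥F →* P24 := MonoidHom.mk' (fun f => (σ f).1) fun f g => by
    show (σ (f * g)).1 = (σ f * σ g).1
    have h1 : H.ι (monoAut (σ (f * g)).1 (σ (f * g)).2 (c (f * g)) (hc _)) * (r (f * g) : G) =
        H.ι (monoAut (σ f * σ g).1 (σ f * σ g).2 (symmDiff (c f) ((σ f).1 • c g))
          (CW_symmDiff (hc f) (smul_CW (σ f).2 (hc g)))) * ((r f * r g : ↥K) : G) := by
      rw [← hf, ← mono_mul (hc f) (hc g), map_mul, Subgroup.coe_mul, Subgroup.coe_mul, hf f, hf g, mul_assoc,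
        ← mul_assoc (r f : G), ← H.ι_comm (r f).2]
      simp only [mul_assoc]
    exact congrArg Subtype.val (H.perm_unique h1)
  have hπ : ∀ f, π f = (σ f).1 := fun f => rfl
  have hker : ∀ f : ↥F, π f = 1 → ∃ d, ∃ hd : d ∈ CW, H.ι (sgn d hd) = (f : G) := by
    intro f h1
    have hm : monoAut (σ f).1 (σ f).2 (c f) (hc f) = sgn (c f) (hc f) := mono_congr' h1 rfl
    have hff := hf f
    rw [hm] at hff
    have hr2 : r f * r f = 1 := by
      refine Subtype.ext ?_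
      have h2 := hsq _ f.2
      rw [hff, mul_assoc, ← mul_assoc (r f : G), ← H.ι_comm (r f).2, mul_assoc, ← mul_assoc (H.ι (sgn _ _)),
        H.E_sq (H.mem_E.2 ⟨_, hc f, rfl⟩), one_mul] at h2
      exact h2
    rcases H.R_sq (hr f) hr2 with e | e
    · exact ⟨_, hc f, by rw [hff, e, mul_one]⟩
    · refine ⟨symmDiff (c f) Finset.univ, CW_symmDiff (hc f) CW_univ, ?_⟩
      rw [hff, e, Hyp.z, ← map_mul, show (negAut : ↥Co0) = sgn Finset.univ CW_univ from rfl, sgn_mul]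
  by_cases hbot : π.range = ⊥
  · have hle : F ≤ H.E := fun g hg => by
      have h1 : π ⟨g, hg⟩ = 1 := Subgroup.mem_bot.1 (hbot ▸ ⟨_, rfl⟩)
      obtain ⟨d, hd, he⟩ := hker ⟨g, hg⟩ h1
      exact H.mem_E.2 ⟨d, hd, he⟩
    exact Subgroup.eq_of_le_of_card_ge hle (by rw [H.E_card]; exact hcard)
  exfalso
  have hsqπ : ∀ x ∈ π.range, x * x = 1 := by
    rintro _ ⟨f, rfl⟩
    rw [← map_mul, show f * f = 1 from Subtype.ext (hsq _ f.2), map_one]
  have hM : π.range ≤ M24 := by rintro _ ⟨f, rfl⟩; exact (σ f).2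
  have hp : IsPGroup 2 ↥π.range := fun x => ⟨1, by rw [pow_one, pow_two]; exact Subtype.ext (hsqπ _ x.2)⟩
  obtain ⟨m, hm⟩ := IsPGroup.iff_card.1 hp
  have hm1 : 1 ≤ m := by
    by_contra h0
    obtain rfl : m = 0 := by omega
    exact hbot (Subgroup.eq_bot_of_card_eq _ (by rw [hm]; norm_num))
  let W : Finset (Finset GolayPt) := Finset.univ.filter fun d => ∃ hd : d ∈ CW, H.ι (sgn d hd) ∈ F
  have hW := few_words hM hsqπ hm hm1 (W := W) (fun d hd => (Finset.mem_filter.1 hd).2.1) (by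
    rintro _ ⟨f, rfl⟩ d hd
    obtain ⟨hdW, hdF⟩ := (Finset.mem_filter.1 hd).2
    have h1 : (f : G) * H.ι (sgn d hdW) * (f : G)⁻¹ = H.ι (sgn d hdW) := by
      rw [hcomm _ f.2 _ hdF, mul_inv_cancel_right]
    rw [hf f, H.conj_sgn' (σ f) (hc f) (r f).2 hdW] at h1
    exact sgn_inj (H.ι_inj h1))
  have hk : Nat.card ↥π.ker ≤ W.card := by
    have hd : ∀ f : ↥π.ker, ∃ d, ∃ hd : d ∈ CW, H.ι (sgn d hd) = ((f : ↥F) : G) := fun f => hker f f.2
    choose d hdW hde using hd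
    haveI : Fintype ↥π.ker := Fintype.ofFinite _
    rw [Nat.card_eq_fintype_card, ← Finset.card_univ]
    refine Finset.card_le_card_of_injOn d (fun f _ => Finset.mem_filter.2 ⟨Finset.mem_univ _, hdW f, ?_⟩) ?_
    · rw [hde f]; exact (f : ↥F).2
    · intro f _ g _ e
      refine Subtype.ext (Subtype.ext ?_)
      rw [← hde f, ← hde g]
      exact congrArg H.ι (sgn_congr e)
  have h := π.ker.card_mul_index
  rw [Subgroup.index_ker, hm] at h
  have := Nat.mul_le_mul_right (2 ^ m) hk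
  omega
where
  mono_congr' {σ : ↥M24} {c d : Finset GolayPt} {hc : c ∈ CW} {hd : d ∈ CW} (h : σ.1 = 1) (h' : c = d) :
      monoAut σ.1 σ.2 c hc = sgn d hd := by
    obtain ⟨σ, hσ⟩ := σ
    change σ = 1 at h
    subst h h'
    rfl

theorem Hyp.E_normal {n : G} (hn : n ∈ Subgroup.normalizer (H.S : Set G)) :
    n ∈ Subgroup.normalizer (H.E : Set G) := by
  have hle : H.E.map (MulAut.conj n).toMonoidHom ≤ H.S := by
    rintro _ ⟨g, hg, rfl⟩
    exact (Subgroup.mem_normalizer_iff.1 hn g).1 (H.E_le_S hg)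
  have heq := H.elementary_eq hle
    (by rintro _ ⟨g, hg, rfl⟩; rw [← map_mul, H.E_sq hg, map_one])
    (by rw [Subgroup.card_map_of_injective (MulAut.conj n).injective, H.E_card])
  rw [Subgroup.mem_normalizer_iff]
  intro g
  constructor
  · intro hg; rw [← heq]; exact ⟨g, hg, rfl⟩
  · intro hg
    rw [← heq] at hg
    obtain ⟨g', hg', he⟩ := hg
    exact (MulAut.conj n).injective he ▸ hg'

/-- A word whose translate lies in a short orbit, in the group. -/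
def Hyp.ShortG (v : G) : Prop :=
  ∃ e ∈ H.E, ((fun s : G => s * e * s⁻¹) '' (H.S : Set G)).ncard ≤ 8 ∧ e * v ∈ (fun s : G => s * e * s⁻¹) '' (H.S : Set G)

theorem Hyp.orbit_eq {c : Finset GolayPt} (hc : c ∈ CW) :
    (fun s : G => s * H.ι (sgn c hc) * s⁻¹) '' (H.S : Set G) =
      {g | ∃ d, ∃ hd : d ∈ CW, d ∈ orbT c ∧ H.ι (sgn d hd) = g} := by
  ext g
  constructor
  · rintro ⟨s, hs, rfl⟩
    obtain ⟨_, ⟨σ, hσ, e, he, rfl⟩, r, -, rfl⟩ := H.mem_S.1 hs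
    exact ⟨_, _, ⟨σ.1, hσ, rfl⟩, (H.conj_sgn' σ he r.2 hc).symm⟩
  · rintro ⟨d, hd, ⟨τ, hτ, rfl⟩, rfl⟩
    refine ⟨H.ι (monoAut τ (spanH_le hτ) ∅ CW_empty) * ((1 : ↥K) : G),
      H.mem_S.2 ⟨_, ⟨⟨τ, spanH_le hτ⟩, hτ, ∅, CW_empty, rfl⟩, 1, one_mem _, rfl⟩, ?_⟩
    exact H.conj_sgn' ⟨τ, spanH_le hτ⟩ CW_empty (1 : ↥K).2 hc

theorem Hyp.shortG_iff {v : Finset GolayPt} (hv : v ∈ CW) : H.ShortG (H.ι (sgn v hv)) ↔ Short v := by
  have hcard : ∀ c, ∀ hc : c ∈ CW,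
      ((fun s : G => s * H.ι (sgn c hc) * s⁻¹) '' (H.S : Set G)).ncard = (orbT c).ncard := by
    intro c hc
    rw [H.orbit_eq hc]
    have hmem : ∀ d ∈ orbT c, d ∈ CW := by
      rintro _ ⟨σ, hσ, rfl⟩; exact smul_CW (spanH_le hσ) hc
    refine (Set.ncard_congr (fun d hd => H.ι (sgn d (hmem d hd))) ?_ ?_ ?_).symm
    · intro d hd; exact ⟨d, hmem d hd, hd, rfl⟩
    · intro a b ha hb e; exact sgn_inj (H.ι_inj e)
    · rintro _ ⟨d, hd, hd', rfl⟩; exact ⟨d, hd', rfl⟩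
  constructor
  · rintro ⟨e, he, hle, hmem⟩
    obtain ⟨c, hc, rfl⟩ := H.mem_E.1 he
    rw [hcard c hc] at hle
    rw [H.orbit_eq hc, ← map_mul, sgn_mul] at hmem
    obtain ⟨d, hd, hd', he'⟩ := hmem
    exact ⟨c, hc, hle, sgn_inj (H.ι_inj he') ▸ hd'⟩
  · rintro ⟨c, hc, hle, hmem⟩
    refine ⟨_, H.mem_E.2 ⟨c, hc, rfl⟩, by rw [hcard c hc]; exact hle, ?_⟩
    rw [H.orbit_eq hc, ← map_mul, sgn_mul]
    exact ⟨_, _, hmem, rfl⟩

theorem Hyp.shortG_conj {n v : G} (hn : n ∈ Subgroup.normalizer (H.S : Set G)) (h : H.ShortG v) :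
    H.ShortG (n * v * n⁻¹) := by
  obtain ⟨e, he, hle, hmem⟩ := h
  have hset : (fun s : G => s * (n * e * n⁻¹) * s⁻¹) '' (H.S : Set G) =
      (fun x : G => n * x * n⁻¹) '' ((fun s : G => s * e * s⁻¹) '' (H.S : Set G)) := by
    ext g
    constructor
    · rintro ⟨s, hs, rfl⟩
      refine ⟨_, ⟨n⁻¹ * s * n, (Subgroup.mem_normalizer_iff''.1 hn s).1 hs, rfl⟩, ?_⟩
      group
    · rintro ⟨_, ⟨s, hs, rfl⟩, rfl⟩
      refine ⟨n * s * n⁻¹, (Subgroup.mem_normalizer_iff.1 hn s).1 hs, ?_⟩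
      group
  refine ⟨n * e * n⁻¹, (Subgroup.mem_normalizer_iff.1 (H.E_normal hn) e).1 he, ?_, ?_⟩
  · rw [hset, Set.ncard_image_of_injective _ (fun a b h => mul_left_cancel (mul_right_cancel h))]; exact hle
  · rw [hset]
    exact ⟨e * v, hmem, by group⟩

/-- The normaliser of the Sylow subgroup fixes the central involution. -/
theorem Hyp.normalizer_fix {n : G} (hn : n ∈ Subgroup.normalizer (H.S : Set G)) : n * H.z * n⁻¹ = H.z := by
  obtain ⟨c, hc, he⟩ := H.mem_E.1 ((Subgroup.mem_normalizer_iff.1 (H.E_normal hn) _).1 H.z_mem_E)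
  have hcent : ∀ s ∈ H.S, s * (n * H.z * n⁻¹) * s⁻¹ = n * H.z * n⁻¹ := by
    intro s hs
    have h1 := Subgroup.mem_centralizer_singleton_iff.1 (H.S_le ((Subgroup.mem_normalizer_iff''.1 hn s).1 hs))
    calc s * (n * H.z * n⁻¹) * s⁻¹ = n * ((n⁻¹ * s * n) * H.z * (n⁻¹ * s * n)⁻¹) * n⁻¹ := by group
      _ = n * H.z * n⁻¹ := by rw [h1]; group
  have hfix : ∀ σ ∈ T, σ • c = c := by
    intro σ hσ
    have h := hcent _ (H.mem_S.2 ⟨_, ⟨⟨σ, spanH_le hσ⟩, hσ, ∅, CW_empty, rfl⟩, 1, one_mem _, rfl⟩)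
    rw [← he, H.conj_sgn' ⟨σ, spanH_le hσ⟩ CW_empty (1 : ↥K).2 hc] at h
    exact sgn_inj (H.ι_inj h)
  have hshort : ∀ {d} (hd : d ∈ CW), d = c → ¬ Short d := by
    intro d hd e hs
    subst e
    have h1 := H.shortG_conj (inv_mem hn) ((H.shortG_iff hd).2 hs)
    rw [he, show n⁻¹ * (n * H.z * n⁻¹) * n⁻¹⁻¹ = H.z by group, Hyp.z] at h1
    exact not_short_univ ((H.shortG_iff CW_univ).1 h1)
  rcases fixed_by_T hc hfix with rfl | rfl | rfl | rfl
  · exfalso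
    rw [show sgn ∅ hc = (1 : ↥Co0) from sgn_empty, map_one] at he
    exact H.z_ne (by
      have := congrArg (fun g => n⁻¹ * g * n) he
      simpa [mul_assoc] using this.symm)
  · exact absurd short_OT (hshort hc rfl)
  · exact absurd short_OT_compl (hshort hc rfl)
  · exact he.symm

/-- The subgroup is a Sylow subgroup of the whole group. -/
theorem Hyp.sylow : ∃ P : Sylow 2 G, (P : Subgroup G) = H.S := by
  haveI : Fact (Nat.Prime 2) := ⟨Nat.prime_two⟩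
  obtain ⟨P, hP⟩ := H.S_pgroup.exists_le_sylow
  refine ⟨P, ?_⟩
  by_contra hne
  haveI := P.2.isNilpotent
  let S' : Subgroup ↥(P : Subgroup G) := H.S.subgroupOf P
  have hlt : S' < ⊤ := lt_top_iff_ne_top.2 fun h => hne (le_antisymm (Subgroup.subgroupOf_eq_top.1 h) hP)
  obtain ⟨q, hq, hqn⟩ := SetLike.exists_of_lt (Group.normalizerCondition_of_isNilpotent S' hlt)
  have hn : (q : G) ∈ Subgroup.normalizer (H.S : Set G) := by
    rw [Subgroup.mem_normalizer_iff]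
    intro s
    constructor
    · intro hs
      exact (Subgroup.mem_normalizer_iff.1 hq ⟨s, hP hs⟩).1 hs
    · intro hs
      have hsP : s ∈ (P : Subgroup G) := by
        have := mul_mem (mul_mem (inv_mem q.2) (hP hs)) q.2
        simpa [mul_assoc] using this
      exact (Subgroup.mem_normalizer_iff.1 hq ⟨s, hsP⟩).2 hs
  have hqC : (q : G) ∈ Subgroup.centralizer ({H.z} : Set G) :=
    Subgroup.mem_centralizer_singleton_iff.2 (mul_inv_eq_iff_eq_mul.1 (H.normalizer_fix hn))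
  have hsup : H.S ⊔ Subgroup.zpowers (q : G) = H.S := H.S_max
    (P.2.to_le (sup_le hP (Subgroup.zpowers_le.2 q.2))) le_sup_left (sup_le H.S_le (Subgroup.zpowers_le.2 hqC))
  exact hqn (hsup ▸ Subgroup.mem_sup_right (Subgroup.mem_zpowers (q : G)) : (q : G) ∈ H.S)

/-- Two sign groups in one 2-subgroup coincide. -/
theorem Hyp.E_unique {Q : Subgroup G} (hQ : IsPGroup 2 ↥Q) (hE : H.E ≤ Q) {g : G}
    (hg : H.E.map (MulAut.conj g).toMonoidHom ≤ Q) : g ∈ Subgroup.normalizer (H.E : Set G) := by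
  haveI : Fact (Nat.Prime 2) := ⟨Nat.prime_two⟩
  obtain ⟨P, hP⟩ := H.sylow
  obtain ⟨Q', hQ'⟩ := hQ.exists_le_sylow
  obtain ⟨h, hh⟩ := MulAction.exists_smul_eq G Q' P
  have hmap : ∀ F : Subgroup G, F ≤ Q → F.map (MulAut.conj h).toMonoidHom ≤ H.S := by
    intro F hF
    rw [← hP, ← hh, Sylow.coe_subgroup_smul]
    rintro _ ⟨x, hx, rfl⟩
    exact ⟨x, hQ' (hF hx), rfl⟩
  have e1 := H.elementary_eq (hmap _ hE) (by rintro _ ⟨x, hx, rfl⟩; rw [← map_mul, H.E_sq hx, map_one])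
    (by rw [Subgroup.card_map_of_injective (MulAut.conj h).injective, H.E_card])
  have e2 := H.elementary_eq (hmap _ hg) (by rintro _ ⟨_, ⟨x, hx, rfl⟩, rfl⟩; rw [← map_mul, ← map_mul, H.E_sq hx, map_one, map_one])
    (by rw [Subgroup.card_map_of_injective (MulAut.conj h).injective,
      Subgroup.card_map_of_injective (MulAut.conj g).injective, H.E_card])
  have e3 : H.E.map (MulAut.conj g).toMonoidHom = H.E :=
    Subgroup.map_injective (MulAut.conj h).injective (e2.trans e1.symm)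
  rw [Subgroup.mem_normalizer_iff]
  intro x
  constructor
  · intro hx; rw [← e3]; exact ⟨x, hx, rfl⟩
  · intro hx
    rw [← e3] at hx
    obtain ⟨x', hx', he⟩ := hx
    exact (MulAut.conj g).injective he ▸ hx'

/-- Fusion inside the sign group is induced by its normaliser. -/
theorem Hyp.fusion {y g : G} (hy : y ∈ H.E) (hgy : g * y * g⁻¹ ∈ H.E) :
    ∃ n ∈ Subgroup.normalizer (H.E : Set G), n * y * n⁻¹ = g * y * g⁻¹ := by
  haveI : Fact (Nat.Prime 2) := ⟨Nat.prime_two⟩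
  set x := g * y * g⁻¹ with hx
  set C := Subgroup.centralizer ({x} : Set G) with hC
  have hEC : H.E ≤ C := fun a ha => Subgroup.mem_centralizer_singleton_iff.2 (H.E_comm ha hgy)
  have hgC : H.E.map (MulAut.conj g).toMonoidHom ≤ C := by
    rintro _ ⟨a, ha, rfl⟩
    refine Subgroup.mem_centralizer_singleton_iff.2 ?_
    show g * a * g⁻¹ * x = x * (g * a * g⁻¹)
    rw [hx]
    calc g * a * g⁻¹ * (g * y * g⁻¹) = g * (a * y) * g⁻¹ := by group
      _ = g * (y * a) * g⁻¹ := by rw [H.E_comm ha hy]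
      _ = _ := by group
  have hp : ∀ {F : Subgroup G}, F ≤ C → (∀ f ∈ F, f * f = 1) → IsPGroup 2 ↥(F.subgroupOf C) := fun hFC hF f =>
    ⟨1, by rw [pow_one, pow_two]; exact Subtype.ext (Subtype.ext (hF _ f.2))⟩
  obtain ⟨T1, hT1⟩ := (hp hEC fun f hf => H.E_sq hf).exists_le_sylow
  obtain ⟨T2, hT2⟩ := (hp hgC (by rintro _ ⟨a, ha, rfl⟩; rw [← map_mul, H.E_sq ha, map_one])).exists_le_sylow
  obtain ⟨c, hc⟩ := MulAction.exists_smul_eq ↥C T2 T1
  refine ⟨(c : G) * g, H.E_unique (T1.2.map C.subtype) ?_ ?_, ?_⟩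
  · intro a ha
    exact ⟨⟨a, hEC ha⟩, hT1 (show (⟨a, hEC ha⟩ : ↥C) ∈ H.E.subgroupOf C from ha), rfl⟩
  · rintro _ ⟨a, ha, rfl⟩
    have hmem : g * a * g⁻¹ ∈ H.E.map (MulAut.conj g).toMonoidHom := ⟨a, ha, rfl⟩
    refine ⟨c * ⟨g * a * g⁻¹, hgC hmem⟩ * c⁻¹, ?_, ?_⟩
    · rw [← hc]
      exact ⟨⟨g * a * g⁻¹, hgC hmem⟩, hT2 (show (⟨g * a * g⁻¹, hgC hmem⟩ : ↥C) ∈ _ from hmem), rfl⟩
    · show (c : G) * (g * a * g⁻¹) * (c : G)⁻¹ = c * g * a * ((c : G) * g)⁻¹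
      group
  · have h1 := Subgroup.mem_centralizer_singleton_iff.1 c.2
    calc (c : G) * g * y * ((c : G) * g)⁻¹ = c * x * (c : G)⁻¹ := by rw [hx]; group
      _ = x := by rw [h1, mul_inv_cancel_right]

end CfsgLib.StdConway
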