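/-
The central involution is isolated.
-/
import Cfsg.Agent.Lib.StdConway.Involutions
import Cfsg.Agent.Lib.StdConway.WeakClosure
import Cfsg.Prelude.Def_IsolatedElements

set_option autoImplicit false
set_option maxHeartbeats 800000

namespace CfsgLib.StdConway

open Cfsg CfsgGolay CfsgLeech CfsgLeech.Out1
open scoped Pointwise

attribute [local irreducible] codeL octadL dodecadL slpCodes sylowM24

local notation "P24" => Equiv.Perm GolayPt
local notation "T" => spanH SylQuot.gT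

/-- A group of automorphisms of an elementary group of order `4096` has no orbit of size `2577`. -/
theorem no_orbit_859 {V : Type*} [Group V] [Finite V] (hV : Nat.card V = 4096) (hexp : ∀ v : V, v * v = 1)
    (L : Subgroup (MulAut V)) : ¬ 859 ∣ Nat.card ↥L := by
  intro hd
  haveI : Fact (Nat.Prime 859) := ⟨by norm_num⟩
  obtain ⟨b, hb⟩ := exists_prime_orderOf_dvd_card' 859 hd
  have hP : IsPGroup 859 ↥(Subgroup.zpowers (b : MulAut V)) := IsPGroup.of_card (n := 1) (by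
    rw [Nat.card_zpowers, Subgroup.orderOf_coe, hb, pow_one])
  let Fx : Subgroup V := (b : MulAut V).toMonoidHom.eqLocus (MonoidHom.id V)
  have hfix : MulAction.fixedPoints ↥(Subgroup.zpowers (b : MulAut V)) V = (Fx : Set V) := by
    ext v
    constructor
    · intro hv
      exact hv ⟨_, Subgroup.mem_zpowers _⟩
    · intro hv
      rintro ⟨x, hx⟩
      have h1 : Subgroup.zpowers (b : MulAut V) ≤ MulAction.stabilizer (MulAut V) v := Subgroup.zpowers_le.2 hv
      exact h1 hx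
  have hmod := hP.card_modEq_card_fixedPoints V
  rw [hV, hfix] at hmod
  have hFp : IsPGroup 2 ↥Fx := fun x => ⟨1, by rw [pow_one, pow_two]; exact Subtype.ext (hexp _)⟩
  obtain ⟨k, hk⟩ := IsPGroup.iff_card.1 hFp
  have hk12 : k ≤ 12 := by
    have h := Subgroup.card_subgroup_dvd_card Fx
    rw [hk, hV, show (4096 : ℕ) = 2 ^ 12 by norm_num] at h
    exact (Nat.pow_dvd_pow_iff_le_right (by norm_num)).1 h
  change 4096 ≡ Nat.card ↥Fx [MOD 859] at hmod
  rw [hk] at hmod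
  have hk' : k = 12 := by
    revert hmod
    interval_cases k <;> simp [Nat.ModEq]
  subst hk'
  have htop : Fx = ⊤ := Subgroup.eq_top_of_card_eq _ (by rw [hk, hV]; norm_num)
  have hb1 : (b : MulAut V) = 1 := MulEquiv.ext fun v => (htop.symm ▸ Subgroup.mem_top v : v ∈ Fx)
  rw [← Subgroup.orderOf_coe, hb1, orderOf_one] at hb
  norm_num at hb

variable {G : Type*} [Group G] {A : Subgroup G} (H : Hyp A)

local notation "K" => Subgroup.centralizer (A : Set G)

/-- The words whose sign change is fused to the central involution in the normaliser of the signs. -/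
def Hyp.Orb : Set (Finset GolayPt) :=
  {c | ∃ hc : c ∈ CW, ∃ n ∈ Subgroup.normalizer (H.E : Set G), n * H.z * n⁻¹ = H.ι (sgn c hc)}

variable [Finite G]

theorem Hyp.ι_normalises {x : ↥Co0} (hx : x ∈ crossStab) : H.ι x ∈ Subgroup.normalizer (H.E : Set G) := by
  rw [Subgroup.mem_normalizer_iff]
  intro g
  constructor
  · rintro ⟨y, hy, rfl⟩
    exact ⟨_, crossStab_conj_sgn hx hy, by simp⟩
  · rintro ⟨y, hy, he⟩
    refine ⟨x⁻¹ * y * x, by simpa using crossStab_conj_sgn (inv_mem hx) hy, ?_⟩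
    rw [map_mul, map_mul, map_inv, he]
    group

theorem Hyp.univ_mem : Finset.univ ∈ H.Orb := ⟨CW_univ, 1, one_mem _, by simp [Hyp.z]; rfl⟩

theorem Hyp.orb_perm {σ : P24} (hσ : σ ∈ M24) {c : Finset GolayPt} (hc : c ∈ H.Orb) : σ • c ∈ H.Orb := by
  obtain ⟨hcW, n, hn, he⟩ := hc
  refine ⟨smul_CW hσ hcW, H.ι (monoAut σ hσ ∅ CW_empty) * n,
    mul_mem (H.ι_normalises (monoAut_keeps hσ CW_empty)) hn, ?_⟩
  rw [← mono_conj_sgn hσ CW_empty hcW, map_mul, map_mul, map_inv, ← he]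
  group

theorem Hyp.orb_fixed {c : Finset GolayPt} (hfix : ∀ σ ∈ T, σ • c = c) (hc : c ∈ H.Orb) : c = Finset.univ := by
  haveI : Fact (Nat.Prime 2) := ⟨Nat.prime_two⟩
  obtain ⟨hcW, n, -, he⟩ := hc
  obtain ⟨P, hP⟩ := H.sylow
  have h1 : H.z ∈ Subgroup.centralizer ((P : Subgroup G) : Set G) := fun s hs => by
    rw [hP] at hs
    exact Subgroup.mem_centralizer_singleton_iff.1 (H.S_le hs)
  have h2 : n⁻¹⁻¹ * H.z * n⁻¹ ∈ Subgroup.centralizer ((P : Subgroup G) : Set G) := fun s hs => by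
    rw [hP] at hs
    obtain ⟨_, ⟨σ, hσ, e, he', rfl⟩, r, -, rfl⟩ := H.mem_S.1 hs
    rw [inv_inv, he]
    have h3 := H.conj_sgn' σ he' r.2 hcW
    rw [mul_inv_eq_iff_eq_mul, sgn_congr (hd := hcW) (hfix _ hσ)] at h3
    exact h3
  obtain ⟨m, hm, hme⟩ := P.conj_eq_normalizer_conj_of_mem_centralizer H.z n⁻¹ h1 h2
  have hm' : m⁻¹ ∈ Subgroup.normalizer (H.S : Set G) := by
    rw [← hP]; exact inv_mem hm
  have h3 := H.normalizer_fix hm'
  rw [inv_inv] at h3
  rw [inv_inv, h3, he] at hme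
  exact sgn_inj (H.ι_inj hme)

theorem Hyp.orb_weights {c : Finset GolayPt} (hc : c ∈ H.Orb) : c = Finset.univ ∨ c ∈ dodecads := by
  obtain ⟨hcW, n, hn, he⟩ := hc
  have hmem : c ∈ H.Orb := ⟨hcW, n, hn, he⟩
  have hOT : OT ∈ octads := ⟨OT_mem, OT_card⟩
  rcases CW_weights hcW with h | h | h | h | h
  · exfalso
    subst h
    rw [show sgn ∅ hcW = (1 : ↥Co0) from sgn_empty, map_one] at he
    exact H.z_ne (by
      have := congrArg (fun g => n⁻¹ * g * n) he
      simpa [mul_assoc] using this)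
  · exfalso
    obtain ⟨g, hg, hge⟩ := octads_transitive (o := c) ⟨hcW, h⟩ hOT
    have h1 := H.orb_perm hg hmem
    rw [show g • c = OT from hge] at h1
    have h2 := H.orb_fixed (fun σ hσ => OT_fix hσ) h1
    have h3 := OT_card
    rw [h2, Finset.card_univ, card_univ_pt] at h3
    omega
  · exact Or.inr ⟨hcW, h⟩
  · exfalso
    have h8 : cᶜ.card = 8 := by rw [Finset.card_compl, card_univ_pt, h]
    obtain ⟨g, hg, hge⟩ := octads_transitive (o := cᶜ) ⟨CW_compl hcW, h8⟩ hOT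
    have h1 := H.orb_perm hg hmem
    have hcompl : g • c = OTᶜ := by
      rw [← hge]
      ext i
      obtain ⟨j, rfl⟩ := g.surjective i
      simp [Finset.smul_finset_def]
    rw [hcompl] at h1
    have h2 := H.orb_fixed (fun σ hσ => by
      ext i
      obtain ⟨j, rfl⟩ := σ.surjective i
      have h4 := Finset.ext_iff.1 (OT_fix hσ) (σ j)
      rw [Finset.smul_finset_def] at h4 ⊢
      simpa using not_congr h4) h1
    have h3 : OTᶜ.card = 16 := by rw [Finset.card_compl, card_univ_pt, OT_card]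
    rw [h2, Finset.card_univ, card_univ_pt] at h3
    omega
  · exact Or.inl h

theorem Hyp.orb_ncard_dvd :
    ∃ L : Subgroup (MulAut ↥H.E), H.Orb.ncard ∣ Nat.card ↥L := by
  classical
  set N := Subgroup.normalizer (H.E : Set G)
  let ρ := H.E.normalizerMonoidHom
  refine ⟨ρ.range, ?_⟩
  let z' : ↥H.E := ⟨H.z, H.z_mem_E⟩
  have hEq : H.Orb.ncard = (MulAction.orbit ↥ρ.range z').ncard := by
    refine Set.ncard_congr (fun c hc => ⟨H.ι (sgn c hc.1), H.mem_E.2 ⟨c, hc.1, rfl⟩⟩) ?_ ?_ ?_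
    · rintro c ⟨hc, n, hn, he⟩
      exact ⟨⟨ρ ⟨n, hn⟩, ⟨n, hn⟩, rfl⟩, Subtype.ext he⟩
    · intro a b ha hb e
      have h9 : H.ι (sgn a ha.1) = H.ι (sgn b hb.1) := congrArg (fun w : ↥H.E => (w : G)) e
      exact sgn_inj (H.ι_inj h9)
    · rintro w ⟨⟨_, ⟨n, hn⟩, rfl⟩, rfl⟩
      obtain ⟨c, hc, he⟩ := H.mem_E.1 ((Subgroup.mem_normalizer_iff.1 hn _).1 H.z_mem_E)
      exact ⟨c, ⟨hc, n, hn, he.symm⟩, Subtype.ext he⟩
  rw [hEq, ← MulAction.index_stabilizer]
  exact Subgroup.index_dvd_card _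

/-- The central involution is fused to no other sign change. -/
theorem Hyp.orb_eq {c : Finset GolayPt} (hc : c ∈ H.Orb) : c = Finset.univ := by
  classical
  by_contra hne
  have hd : c ∈ dodecads := (H.orb_weights hc).resolve_left hne
  have hset : H.Orb = insert Finset.univ dodecads := by
    ext d
    constructor
    · exact fun h => H.orb_weights h
    · rintro (rfl | h)
      · exact H.univ_mem
      · obtain ⟨g, hg, hge⟩ := dodecads_transitive hd h
        rw [show d = g • c from hge.symm]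
        exact H.orb_perm hg hc
  have hu : Finset.univ ∉ dodecads := fun h => by
    have h3 : (Finset.univ : Finset GolayPt).card = 12 := h.2
    rw [Finset.card_univ, card_univ_pt] at h3
    omega
  obtain ⟨L, hL⟩ := H.orb_ncard_dvd
  rw [hset, Set.ncard_insert_of_notMem hu (Set.toFinite _), dodecads_ncard] at hL
  exact no_orbit_859 H.E_card (fun v => Subtype.ext (H.E_sq v.2)) L (dvd_trans (by norm_num) hL)

theorem Hyp.class_E {g : G} (hg : g * H.z * g⁻¹ ∈ H.E) : g * H.z * g⁻¹ = H.z := by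
  obtain ⟨n, hn, he⟩ := H.fusion H.z_mem_E hg
  obtain ⟨c, hc, hce⟩ := H.mem_E.1 hg
  have hmem : c ∈ H.Orb := ⟨hc, n, hn, he.trans hce.symm⟩
  obtain rfl := H.orb_eq hmem
  exact hce.symm

theorem conj_crossStab {x : ↥Co0} (hx : x * x = 1) : ∃ h : ↥Co0, h * x * h⁻¹ ∈ crossStab := by
  classical
  haveI := co0_finite
  haveI : Fact (Nat.Prime 2) := ⟨Nat.prime_two⟩
  let Ps : Sylow 2 ↥Co0 := Sylow.ofCard S0 (by rw [S0_card, co0_fac])
  have hp : IsPGroup 2 ↥(Subgroup.zpowers x) := by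
    refine IsPGroup.of_card (n := if x = 1 then 0 else 1) ?_
    rw [Nat.card_zpowers]
    split_ifs with h
    · simp [h]
    · rw [orderOf_eq_prime (by rw [pow_two]; exact hx) h]; norm_num
  obtain ⟨Q, hQ⟩ := hp.exists_le_sylow
  obtain ⟨h, hh⟩ := MulAction.exists_smul_eq ↥Co0 Q Ps
  refine ⟨h, S0_le ?_⟩
  have : h * x * h⁻¹ ∈ ((h • Q : Sylow 2 ↥Co0) : Subgroup ↥Co0) := by
    rw [Sylow.coe_subgroup_smul]
    exact ⟨x, hQ (Subgroup.mem_zpowers x), rfl⟩
  rw [hh] at this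
  exact this

/-- The class of the central involution meets the standard subgroup in it alone. -/
theorem Hyp.class_A {g : G} (hg : g * H.z * g⁻¹ ∈ A) : g * H.z * g⁻¹ = H.z := by
  obtain ⟨x, hx⟩ := H.ι_surj hg
  have hx2 : x * x = 1 := H.ι_inj (by
    rw [map_mul, hx, map_one]
    calc g * H.z * g⁻¹ * (g * H.z * g⁻¹) = g * (H.z * H.z) * g⁻¹ := by group
      _ = 1 := by rw [H.z_sq]; group)
  obtain ⟨h, hh⟩ := conj_crossStab hx2
  obtain ⟨h', d, hd, hd'⟩ := involution_sign hh (by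
    calc h * x * h⁻¹ * (h * x * h⁻¹) = h * (x * x) * h⁻¹ := by group
      _ = 1 := by rw [hx2]; group)
  set u := H.ι (h' * h) with hu
  have h1 : (u * g) * H.z * (u * g)⁻¹ = H.ι (sgn d hd) := by
    rw [← hd', show (u * g) * H.z * (u * g)⁻¹ = u * (g * H.z * g⁻¹) * u⁻¹ by group, ← hx, hu, ← map_inv, ← map_mul,
      ← map_mul]
    exact congrArg H.ι (by group)
  have h2 := H.class_E (g := u * g) (h1 ▸ H.mem_E.2 ⟨d, hd, rfl⟩)
  have h3 : u * H.z = H.z * u := by
    rw [hu, Hyp.z, ← map_mul, ← map_mul]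
    exact congrArg H.ι (Subgroup.mem_center_iff.1 negAut_central _)
  calc g * H.z * g⁻¹ = u⁻¹ * ((u * g) * H.z * (u * g)⁻¹) * u := by group
    _ = u⁻¹ * H.z * u := by rw [h2]
    _ = H.z := by rw [mul_assoc, ← h3, inv_mul_cancel_left]

/-- The central involution is isolated. -/
theorem Hyp.isolated : IsIsolated H.z := by
  haveI : Fact (Nat.Prime 2) := ⟨Nat.prime_two⟩
  intro g hg
  by_contra hne
  set x := g * H.z * g⁻¹ with hx
  have hxC : x ∈ Subgroup.centralizer ({H.z} : Set G) := Subgroup.mem_centralizer_singleton_iff.2 hg.eq.symm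
  obtain ⟨a, k, hk, hak⟩ := H.mem_cent.1 hxC
  -- the element of the centraliser is conjugate to one commuting with the Sylow subgroup
  have hxx : x * x = 1 := by
    rw [hx]
    calc g * H.z * g⁻¹ * (g * H.z * g⁻¹) = g * (H.z * H.z) * g⁻¹ := by group
      _ = 1 := by rw [H.z_sq]; group
  have hkk : (⟨k, hk⟩ : ↥K) ^ 4 = 1 := by
    have h1 : H.ι (a * a) * (k * k) = 1 := by
      rw [← hxx, hak, map_mul]
      calc H.ι a * H.ι a * (k * k) = H.ι a * (H.ι a * k) * k := by simp only [mul_assoc]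
        _ = H.ι a * (k * H.ι a) * k := by rw [H.ι_comm hk]
        _ = H.ι a * k * (H.ι a * k) := by simp only [mul_assoc]
    have hmem : H.ι (a * a) ∈ K := by
      rw [eq_inv_of_mul_eq_one_left h1]
      exact inv_mem (mul_mem hk hk)
    have h2 : (k * k) * (k * k) = 1 := by
      have h3 : k * k = (H.ι (a * a))⁻¹ := eq_inv_of_mul_eq_one_right h1
      rw [h3]
      rcases H.center_of_mem hmem with e | e <;> rw [e]
      · simp
      · rw [← Hyp.z, ← mul_inv_rev, H.z_sq, inv_one]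
    refine Subtype.ext ?_
    show k ^ 4 = 1
    rw [← h2, pow_succ, pow_succ, pow_succ, pow_one, mul_assoc]
  have hp : IsPGroup 2 ↥(Subgroup.zpowers (⟨k, hk⟩ : ↥K)) := by
    obtain ⟨i, -, hi⟩ := (Nat.dvd_prime_pow Nat.prime_two).1
      (show orderOf (⟨k, hk⟩ : ↥K) ∣ 2 ^ 2 from orderOf_dvd_of_pow_eq_one hkk)
    exact IsPGroup.of_card (n := i) (by rw [Nat.card_zpowers, hi])
  obtain ⟨Q, hQ⟩ := hp.exists_le_sylow
  obtain ⟨c, hc⟩ := MulAction.exists_smul_eq ↥K Q H.R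
  have hk' : c * ⟨k, hk⟩ * c⁻¹ ∈ (H.R : Subgroup ↥K) := by
    rw [← hc, Sylow.coe_subgroup_smul]
    exact ⟨_, hQ (Subgroup.mem_zpowers _), rfl⟩
  -- conjugate by `c`
  set g' := (c : G) * g with hg'
  set x' := g' * H.z * g'⁻¹ with hx'
  have hx'e : x' = H.ι a * ((c * ⟨k, hk⟩ * c⁻¹ : ↥K) : G) := by
    rw [hx', hg', show (c : G) * g * H.z * ((c : G) * g)⁻¹ = (c : G) * x * (c : G)⁻¹ by rw [hx]; group, hak]
    show (c : G) * (H.ι a * k) * (c : G)⁻¹ = H.ι a * ((c : G) * k * (c : G)⁻¹)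
    rw [← mul_assoc (c : G), ← H.ι_comm c.2]
    group
  have hne' : x' ≠ H.z := by
    intro e
    apply hne
    have hcz : (c : G) * H.z = H.z * (c : G) := (c.2 _ (H.ι_mem negAut)).symm
    calc x = (c : G)⁻¹ * x' * c := by rw [hx', hg', hx]; group
      _ = (c : G)⁻¹ * H.z * c := by rw [e]
      _ = H.z := by rw [mul_assoc, ← hcz, inv_mul_cancel_left]
  set k' : ↥K := c * ⟨k, hk⟩ * c⁻¹ with hk'def
  haveI := H.cyc
  obtain ⟨r, hr⟩ := IsCyclic.exists_generator (α := ↥(H.R : Subgroup ↥K))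
  obtain ⟨i, hi⟩ := Subgroup.mem_zpowers_iff.1 (hr ⟨k', hk'⟩)
  obtain ⟨t, ht⟩ := IsPGroup.iff_card.1 H.R.2
  have hordr : orderOf r = 2 ^ t := (orderOf_eq_card_of_forall_mem_zpowers hr).trans ht
  have ht1 : 1 ≤ t := by
    by_contra h0
    obtain rfl : t = 0 := by omega
    rw [pow_zero, orderOf_eq_one_iff] at hordr
    obtain ⟨j, hj⟩ := Subgroup.mem_zpowers_iff.1 (hr ⟨_, H.z_mem_R⟩)
    rw [hordr, one_zpow] at hj
    exact H.z_ne (congrArg (fun q : ↥(H.R : Subgroup ↥K) => ((q : ↥K) : G)) hj.symm)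
  set rg : G := ((r : ↥K) : G) with hrg
  have hzr : H.z = rg ^ 2 ^ (t - 1) := by
    have hsq : ((r : ↥K) ^ 2 ^ (t - 1)) * ((r : ↥K) ^ 2 ^ (t - 1)) = 1 := by
      rw [← pow_add, ← two_mul, ← pow_succ', Nat.sub_add_cancel ht1, ← SubgroupClass.coe_pow, ← hordr,
        pow_orderOf_eq_one]
      rfl
    rcases H.R_sq (pow_mem r.2 _) hsq with e | e
    · exfalso
      have h1 : r ^ 2 ^ (t - 1) = 1 := Subtype.ext (Subtype.ext e)
      have h2 := orderOf_dvd_of_pow_eq_one h1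
      rw [hordr, Nat.pow_dvd_pow_iff_le_right (by norm_num)] at h2
      omega
    · exact e.symm
  have hrx : rg * x' = x' * rg := by
    have h1 : (r : ↥K) * k' = k' * (r : ↥K) := by
      have h2 := congrArg Subtype.val hi
      rw [SubgroupClass.coe_zpow] at h2
      change (r : ↥K) ^ i = k' at h2
      rw [← h2, (Commute.zpow_right (Commute.refl (r : ↥K)) i).eq]
    have h3 : rg * (k' : G) = (k' : G) * rg := congrArg Subtype.val h1
    rw [hx'e, ← mul_assoc, ← H.ι_comm (r : ↥K).2, mul_assoc, h3, ← mul_assoc]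
  -- move to the centraliser of the original involution
  have hw : g'⁻¹ * rg * g' ∈ Subgroup.centralizer ({H.z} : Set G) := by
    rw [Subgroup.mem_centralizer_singleton_iff]
    calc g'⁻¹ * rg * g' * H.z = g'⁻¹ * (rg * x') * g' := by rw [hx']; group
      _ = g'⁻¹ * (x' * rg) * g' := by rw [hrx]
      _ = H.z * (g'⁻¹ * rg * g') := by rw [hx']; group
  obtain ⟨b, m, hm, hbm⟩ := H.mem_cent.1 hw
  have hcomm : Commute (H.ι b) m := H.ι_comm hm b
  have hw2 : g'⁻¹ * H.z * g' = H.ι (b ^ 2 ^ (t - 1)) * m ^ 2 ^ (t - 1) := by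
    rw [hzr, map_pow, ← hcomm.mul_pow, ← hbm]
    have h7 := conj_pow (i := 2 ^ (t - 1)) (a := g'⁻¹) (b := rg)
    rw [inv_inv] at h7
    exact h7.symm
  let mk : ↥K := ⟨m, hm⟩
  obtain ⟨e, o, ho, hmo⟩ := Nat.exists_eq_two_pow_mul_odd (orderOf_pos mk).ne'
  have hpt : IsPGroup 2 ↥(Subgroup.zpowers (mk ^ o)) := IsPGroup.of_card (n := e) (by
    rw [Nat.card_zpowers, orderOf_pow, hmo, Nat.gcd_eq_right (dvd_mul_left _ _), Nat.mul_div_cancel _ ho.pos])
  obtain ⟨Q', hQ'⟩ := hpt.exists_le_sylow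
  obtain ⟨c', hc'⟩ := MulAction.exists_smul_eq ↥K Q' H.R
  set v : ↥K := (mk ^ 2 ^ (t - 1)) ^ o with hv
  have hvR : c' * v * c'⁻¹ ∈ (H.R : Subgroup ↥K) := by
    rw [← hc', Sylow.coe_subgroup_smul]
    refine ⟨v, hQ' ?_, rfl⟩
    rw [hv, ← pow_mul, mul_comm, pow_mul]
    exact Subgroup.pow_mem _ (Subgroup.mem_zpowers _) _
  have hvsq : c' * v * c'⁻¹ * (c' * v * c'⁻¹) = 1 := by
    have hqord : (mk ^ o) ^ 2 ^ t = 1 := by
      have h1 : c' * (mk ^ o) * c'⁻¹ ∈ (H.R : Subgroup ↥K) := by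
        rw [← hc', Sylow.coe_subgroup_smul]
        exact ⟨_, hQ' (Subgroup.mem_zpowers _), rfl⟩
      have h2 : (c' * (mk ^ o) * c'⁻¹) ^ 2 ^ t = 1 := by
        have h3 := pow_card_eq_one' (x := (⟨_, h1⟩ : ↥(H.R : Subgroup ↥K)))
        rw [ht] at h3
        exact congrArg Subtype.val h3
      rw [conj_pow] at h2
      exact conj_eq_one_iff.1 h2
    rw [show c' * v * c'⁻¹ * (c' * v * c'⁻¹) = c' * (v * v) * c'⁻¹ by group, hv, ← pow_mul, ← pow_add, ← two_mul,
      ← mul_assoc, ← pow_succ', Nat.sub_add_cancel ht1, mul_comm, pow_mul, hqord, mul_one, mul_inv_cancel]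
  have hvz : (v : G) = 1 ∨ (v : G) = H.z := by
    rcases H.R_sq hvR hvsq with e | e
    · left
      exact congrArg Subtype.val (conj_eq_one_iff.1 (Subtype.ext e : c' * v * c'⁻¹ = 1))
    · right
      have h1 : (c' : G) * (v : G) * (c' : G)⁻¹ = H.z := e
      have hcz : (c' : G) * H.z = H.z * (c' : G) := (c'.2 _ (H.ι_mem negAut)).symm
      calc (v : G) = (c' : G)⁻¹ * ((c' : G) * (v : G) * (c' : G)⁻¹) * c' := by group
        _ = H.z := by rw [h1, mul_assoc, ← hcz, inv_mul_cancel_left]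
  have hvA : (v : G) ∈ A := by
    rcases hvz with e | e <;> rw [e]
    · exact one_mem A
    · exact H.ι_mem negAut
  set y := g'⁻¹ * H.z * g' with hy
  have hyy : y ^ 2 = 1 := by
    rw [pow_two, hy]
    calc g'⁻¹ * H.z * g' * (g'⁻¹ * H.z * g') = g'⁻¹ * (H.z * H.z) * g' := by group
      _ = 1 := by rw [H.z_sq]; group
  have hyo : y ^ o = y := by
    obtain ⟨l, rfl⟩ := ho
    rw [pow_succ, pow_mul, hyy, one_pow, one_mul]
  have hyA : y ∈ A := by
    rw [← hyo, hw2, Commute.mul_pow (H.ι_comm (pow_mem hm _) _)]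
    exact mul_mem (pow_mem (H.ι_mem _) _) hvA
  have h5 := H.class_A (g := g'⁻¹) (by rw [inv_inv]; exact hyA)
  rw [inv_inv] at h5
  apply hne'
  rw [hx']
  calc g' * H.z * g'⁻¹ = g' * (g'⁻¹ * H.z * g') * g'⁻¹ := by rw [h5]
    _ = H.z := by group

end CfsgLib.StdConway
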